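import Cfsg.Agent.Mrg.Omega.OM.Lev.Main
import Cfsg.Agent.Mrg.Omega.TC.No
import Cfsg.Agent.Mrg.Omega.NO3S.EThree.Frame
import Cfsg.Agent.Mrg.Omega.NO3S.EMany.Four
import Cfsg.Agent.Mrg.Omega.EK3.BlkUniQ
import Cfsg.Agent.Mrg.Omega.TC.UniLev
import Cfsg.Agent.Mrg.Omega.OM.SWQ.Dt
import Cfsg.Agent.Mrg.Omega.OM.Lev.Low.LowMain

section


/-!
# (E), `k ≥ 3`, `q ≥ 4` (bb #22703, #23165): the frame

`Y_j = C_G(Z_l : l ≠ j)`, `C_ij = C_G(Z_l : l ≠ i, j)`, `N_j = ⟨Z_j^{Y_j}⟩`, `T_j = S ∩ Y_j`, `D = C_G(Z_J)`.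
-/

set_option autoImplicit false
set_option linter.unusedSectionVars false

namespace Cfsg.Agent.Omega.EK3.Q

open Subgroup Cfsg Cfsg.Agent.ZN.ChoiceBase
open Cfsg.Agent.ZN (jj zj bau zc zl o2)
open Cfsg.Agent.Omega.NO3S.EThree.Frame
open Cfsg.Agent.Omega.Node.MultiOf

universe u

variable {G : Type u} [Group G] {k : ℕ}

/-- `Y_j = C_G(Z_l : l ≠ j)` -/
def YQ (Z : Fin k → Subgroup G) (j : Fin k) : Subgroup G := ⨅ l : {l : Fin k // l ≠ j}, centralizer (Z l : Set G)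

/-- `C_ij = C_G(Z_l : l ≠ i, j)` -/
def CQ (Z : Fin k → Subgroup G) (i j : Fin k) : Subgroup G :=
  ⨅ l : {l : Fin k // l ≠ i ∧ l ≠ j}, centralizer (Z l : Set G)

/-- `N_j = ⟨Z_j^{Y_j}⟩` -/
def NQ (Z : Fin k → Subgroup G) (j : Fin k) : Subgroup G := NoFF.Basic.V (Z j) (YQ Z j)

/-- `T_j = S ∩ Y_j` -/
def TY [Finite G] (S : Sylow 2 G) (Z : Fin k → Subgroup G) (j : Fin k) : Subgroup G := (S : Subgroup G) ⊓ YQ Z j

/-- **The frame of (E), `k ≥ 3`, `q ≥ 4`.** -/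
structure FrQ [Finite G] (S : Sylow 2 G) (P K B ZJ : Subgroup G) (L W Z C : Fin k → Subgroup G) (q : ℕ) : Prop where
  mul : Mul S P K B ZJ L W Z C q
  three : 3 ≤ k
  four : 4 ≤ q
  /-- the only form of (TI) used -/
  ti : ∀ i j, i ≠ j → ∀ z ∈ Z i, z ≠ 1 → centralizer ({z} : Set G) ⊓ CQ Z i j ≤ normalizer (Z i : Set G)
  /-- UNI+ at the level -/
  uni : ∀ L' V' : Subgroup G, FBl B L' V' → ∃ i, V' = W i ∧ ∀ z ∈ ZJ, z ∈ C i → ∀ l ∈ L', l * z = z * l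
  /-- minimal parabolics over `T_j` which move `Ω₁(Z(T_j))`, `K ≰ O₂(R)`, contain a block -/
  blk : ∀ j, TC.OfMul.BlkS K B (TY S Z j)

theorem mem_YQ {Z : Fin k → Subgroup G} {j : Fin k} {x : G} :
    x ∈ YQ Z j ↔ ∀ l, l ≠ j → ∀ z ∈ Z l, x * z = z * x := by
  unfold YQ
  rw [mem_iInf]
  constructor
  · exact fun h l hl z hz => (mem_centralizer_iff.1 (h ⟨l, hl⟩) z hz).symm
  · exact fun h l => mem_centralizer_iff.2 fun z hz => (h l l.2 z hz).symm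

theorem mem_CQ {Z : Fin k → Subgroup G} {i j : Fin k} {x : G} :
    x ∈ CQ Z i j ↔ ∀ l, l ≠ i → l ≠ j → ∀ z ∈ Z l, x * z = z * x := by
  unfold CQ
  rw [mem_iInf]
  constructor
  · exact fun h l hi hj z hz => (mem_centralizer_iff.1 (h ⟨l, hi, hj⟩) z hz).symm
  · exact fun h l => mem_centralizer_iff.2 fun z hz => (h l l.2.1 l.2.2 z hz).symm

theorem CQ_comm (Z : Fin k → Subgroup G) (i j : Fin k) : CQ Z i j = CQ Z j i := by
  ext x
  rw [mem_CQ, mem_CQ]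
  exact ⟨fun h l hj hi => h l hi hj, fun h l hi hj => h l hj hi⟩

theorem YQ_le_left (Z : Fin k → Subgroup G) (i j : Fin k) : YQ Z i ≤ CQ Z i j := fun _ hx =>
  mem_CQ.2 fun l hi _ => mem_YQ.1 hx l hi

theorem YQ_le_right (Z : Fin k → Subgroup G) (i j : Fin k) : YQ Z j ≤ CQ Z i j := fun _ hx =>
  mem_CQ.2 fun l _ hj => mem_YQ.1 hx l hj

theorem YQ_cent {Z : Fin k → Subgroup G} {j l : Fin k} (hl : l ≠ j) : YQ Z j ≤ centralizer (Z l : Set G) :=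
  fun _ hx => mem_centralizer_iff.2 fun z hz => (mem_YQ.1 hx l hl z hz).symm

theorem CQ_cent {Z : Fin k → Subgroup G} {i j l : Fin k} (hi : l ≠ i) (hj : l ≠ j) :
    CQ Z i j ≤ centralizer (Z l : Set G) :=
  fun _ hx => mem_centralizer_iff.2 fun z hz => (mem_CQ.1 hx l hi hj z hz).symm

theorem YQ_eq_cent (Z : Fin k → Subgroup G) (j : Fin k) :
    YQ Z j = centralizer ((⨆ l : {l : Fin k // l ≠ j}, Z l : Subgroup G) : Set G) := by
  apply le_antisymm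
  · rw [le_centralizer_iff]
    exact iSup_le fun l => le_centralizer_iff.1 (YQ_cent l.2)
  · exact le_iInf fun l => centralizer_le (le_iSup (fun l : {l : Fin k // l ≠ j} => Z l) l)

theorem CQ_eq_cent (Z : Fin k → Subgroup G) (i j : Fin k) :
    CQ Z i j = centralizer ((⨆ l : {l : Fin k // l ≠ i ∧ l ≠ j}, Z l : Subgroup G) : Set G) := by
  apply le_antisymm
  · rw [le_centralizer_iff]
    exact iSup_le fun l => le_centralizer_iff.1 (CQ_cent l.2.1 l.2.2)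
  · exact le_iInf fun l => centralizer_le (le_iSup (fun l : {l : Fin k // l ≠ i ∧ l ≠ j} => Z l) l)

end Cfsg.Agent.Omega.EK3.Q

end

section


/-!
# (E), `k ≥ 3`, `q ≥ 4` (bb #22703, #23165): basic facts over the frame `FrQ`

* `stab`, `sylD`, `syl`, `conj`, `fixB`; `TY_com` : `T_j` acts trivially on `W l / Z l` (`l ≠ j`);
* `exists_m`, `char2`, `NQ_eq`, `W_le_NQ`, `NQ_le_zc`, `Q_eq`, `O_le`;
* `normZ`, `frat`.
-/

set_option autoImplicit false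
set_option linter.unusedSectionVars false

namespace Cfsg.Agent.Omega.EK3.Q

open Subgroup Cfsg Cfsg.Agent.ZN.ChoiceBase
open Cfsg.Agent.ZN (jj zj bau zc zl o2)
open Cfsg.Agent.ZN.ChoiceSit (Syl exists_syl syl_conj o2_le_syl)
open Cfsg.Agent.Omega.OM Cfsg.Agent.Omega.OM.Uni
open Cfsg.Agent.Omega.NO3S.EThree.Frame
open Cfsg.Agent.Omega.Node.MultiOf
open Cfsg.Agent.MinSimple.VModule (le_normalizer_o2 o2_isPGroup le_o2 o2_le mem_zc)
open Cfsg.Agent.MinSimple.MinParabolic (IsMinPar)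
open scoped Pointwise

universe u

variable {G : Type u} [Group G] {k : ℕ}

namespace FrQ

variable [Finite G] {S : Sylow 2 G} {P K B ZJ : Subgroup G} {L W Z C : Fin k → Subgroup G} {q : ℕ}
  (h : FrQ S P K B ZJ L W Z C q)
include h

theorem bg : Bg S P B ZJ L W Z C q := h.mul.bg

theorem lb : LevD.LB S K B ZJ := h.mul.lb

theorem two_lt : 2 < q := lt_of_lt_of_le (by norm_num) h.four

theorem exists_ne (j : Fin k) : ∃ i, i ≠ j := h.bg.two j

theorem Z_le_C {l j : Fin k} (hl : l ≠ j) : Z l ≤ C j := (h.bg.fr.blk l).ZV.trans (h.bg.fr.WjC j l hl.symm)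

theorem D_le (j : Fin k) : centralizer (ZJ : Set G) ≤ YQ Z j := fun _ hx =>
  mem_YQ.2 fun l _ z hz => (mem_centralizer_iff.1 hx z (h.bg.fr.Z_le l hz)).symm

theorem L_le (j : Fin k) : L j ≤ YQ Z j := fun x hx =>
  mem_YQ.2 fun l hl z hz => h.bg.fr.LC j x hx z (h.bg.fr.Z_le l hz) (h.Z_le_C hl hz)

theorem B_le_D : B ≤ centralizer (ZJ : Set G) := h.bg.eqB.le.trans inf_le_right

theorem B_le_Y (j : Fin k) : B ≤ YQ Z j := h.B_le_D.trans (h.D_le j)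

theorem B_le_T (j : Fin k) : B ≤ TY S Z j := le_inf h.bg.BS (h.B_le_Y j)

theorem W_le_B (j : Fin k) : W j ≤ B := (h.bg.fr.WV j).trans h.bg.fr.VB

theorem Z_le_B (j : Fin k) : Z j ≤ B := (h.bg.fr.blk j).ZV.trans (h.W_le_B j)

/-- `ZJ = ⟨Z l⟩` -/
theorem ZJ_eq : ZJ = ⨆ l, Z l := by
  apply le_antisymm
  · intro z hz
    obtain ⟨i⟩ : Nonempty (Fin k) := ⟨⟨0, lt_of_lt_of_le (by norm_num) h.three⟩⟩
    obtain ⟨w, hw, c, hc, hcJ, rfl⟩ := h.bg.fr.split_ZJ i hz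
    have h1 : c ∈ ⨆ j : {j : Fin k // j ≠ i}, Z j := h.bg.ZC_le i ⟨hcJ, hc⟩
    have h2 : (⨆ j : {j : Fin k // j ≠ i}, Z j) ≤ ⨆ l, Z l := iSup_le fun j => le_iSup Z j.1
    exact mul_mem (le_iSup Z i hw) (h2 h1)
  · exact iSup_le h.bg.fr.Z_le

theorem mem_D {x : G} : x ∈ centralizer (ZJ : Set G) ↔ ∀ l, ∀ z ∈ Z l, x * z = z * x := by
  constructor
  · exact fun hx l z hz => (mem_centralizer_iff.1 hx z (h.bg.fr.Z_le l hz)).symm
  · intro hx
    have h1 : ZJ ≤ centralizer ({x} : Set G) := by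
      rw [h.ZJ_eq]
      exact iSup_le fun l z hz => by
        rw [mem_centralizer_singleton_iff]
        exact (hx l z hz).symm
    exact mem_centralizer_iff.2 fun z hz => mem_centralizer_singleton_iff.1 (h1 hz)

/-- **`C_{Y_j}(Z_j) = D`** -/
theorem stab (j : Fin k) : YQ Z j ⊓ centralizer (Z j : Set G) = centralizer (ZJ : Set G) := by
  apply le_antisymm
  · rintro x ⟨hx, hxc⟩
    rw [h.mem_D]
    intro l z hz
    by_cases hl : l = j
    · subst hl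
      exact (mem_centralizer_iff.1 hxc z hz).symm
    · exact mem_YQ.1 hx l hl z hz
  · exact le_inf (h.D_le j) (centralizer_le (h.bg.fr.Z_le j))

theorem sylD : Syl B (centralizer (ZJ : Set G)) := h.bg.syl_B

theorem O_le_B : o2 (centralizer (ZJ : Set G)) ≤ B := o2_le_syl h.sylD

/-! ### `N_G(B)` -/

omit h [Finite G] in
theorem cj_YQ_le {n : G} {σ : Equiv.Perm (Fin k)} (hσ : ∀ l, cj n (Z l) = Z (σ l)) (j : Fin k) :
    YQ Z (σ j) ≤ cj n (YQ Z j) := by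
  intro x hx
  rw [mem_cj]
  refine mem_YQ.2 fun l hl z hz => ?_
  have h1 : n * z * n⁻¹ ∈ Z (σ l) := (hσ l) ▸ ⟨z, hz, rfl⟩
  have h2 := mem_YQ.1 hx (σ l) (fun e => hl (σ.injective e)) _ h1
  have h3 := congrArg (fun t => n⁻¹ * t * n) h2
  have e1 : n⁻¹ * (x * (n * z * n⁻¹)) * n = n⁻¹ * x * n * z := by group
  have e2 : n⁻¹ * (n * z * n⁻¹ * x) * n = z * (n⁻¹ * x * n) := by group
  rw [← e1, ← e2]
  exact h3

omit h [Finite G] in
theorem cj_YQ {n : G} {σ : Equiv.Perm (Fin k)} (hσ : ∀ l, cj n (Z l) = Z (σ l)) (j : Fin k) :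
    cj n (YQ Z j) = YQ Z (σ j) := by
  refine le_antisymm ?_ (cj_YQ_le hσ j)
  have hσ' : ∀ l, cj n⁻¹ (Z l) = Z (σ.symm l) := by
    intro l
    have h1 := hσ (σ.symm l)
    rw [Equiv.apply_symm_apply] at h1
    rw [← h1, cj_inv_cj]
  have h2 := cj_YQ_le hσ' (σ j)
  rw [Equiv.symm_apply_apply] at h2
  have h3 := cj_mono n h2
  rwa [cj_cj_inv] at h3

omit h [Finite G] in
theorem cj_V (n : G) (X Y : Subgroup G) : cj n (NoFF.Basic.V X Y) = NoFF.Basic.V (cj n X) (cj n Y) := by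
  have key : ∀ (n : G) (X Y : Subgroup G), NoFF.Basic.V (cj n X) (cj n Y) ≤ cj n (NoFF.Basic.V X Y) := by
    intro n X Y
    refine NoFF.Basic.V_le fun p hp => ?_
    rw [mem_cj] at hp
    have h1 : cj (n⁻¹ * p * n) X ≤ NoFF.Basic.V X Y := NoFF.Basic.Z_le_V hp
    have h2 := cj_mono n h1
    rw [cj_cj] at h2
    have e : n * (n⁻¹ * p * n) = p * n := by group
    rw [e, ← cj_cj] at h2
    exact h2
  refine le_antisymm ?_ (key n X Y)
  have h1 := cj_mono n (key n⁻¹ (cj n X) (cj n Y))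
  rwa [cj_inv_cj, cj_inv_cj, cj_cj_inv] at h1

omit h [Finite G] in
theorem cj_NQ {n : G} {σ : Equiv.Perm (Fin k)} (hσ : ∀ l, cj n (Z l) = Z (σ l)) (j : Fin k) :
    cj n (NQ Z j) = NQ Z (σ j) := by
  unfold NQ
  rw [cj_V, hσ j, cj_YQ hσ j]

/-- **`N_G(B)` permutes everything** -/
theorem conj {n : G} (hn : n ∈ normalizer (B : Set G)) : ∃ σ : Equiv.Perm (Fin k), ∀ l,
    cj n (W l) = W (σ l) ∧ cj n (Z l) = Z (σ l) ∧ cj n (YQ Z l) = YQ Z (σ l) ∧ cj n (NQ Z l) = NQ Z (σ l) := by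
  obtain ⟨σ, hσ⟩ := h.bg.perm_W hn
  exact ⟨σ, fun l => ⟨(hσ l).1, (hσ l).2, cj_YQ (fun l => (hσ l).2) l, cj_NQ (fun l => (hσ l).2) l⟩⟩

/-- `N_G(B) ∩ Y_j` fixes all indices -/
theorem fixB {n : G} (hn : n ∈ normalizer (B : Set G)) {j : Fin k} (hY : n ∈ YQ Z j) (l : Fin k) :
    cj n (W l) = W l ∧ cj n (Z l) = Z l := by
  obtain ⟨σ, hσ⟩ := h.bg.perm_W hn
  have h1 : ∀ l, l ≠ j → σ l = l := by
    intro l hl
    refine h.bg.Z_inj ?_
    rw [← (hσ l).2]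
    exact mem_normalizer_iff_cj.1 (centralizer_le_normalizer _ (YQ_cent hl hY))
  have h2 : σ l = l := by
    by_cases hl : l = j
    · subst hl
      by_contra hne
      exact hne (σ.injective (h1 _ hne))
    · exact h1 l hl
  have h3 := hσ l
  rwa [h2] at h3

/-! ### The Sylow group `T_j` -/

theorem T_two (j : Fin k) : IsPGroup 2 (TY S Z j) := S.isPGroup'.to_le inf_le_left

theorem T_norm_B (j : Fin k) : TY S Z j ≤ normalizer (B : Set G) := h.bg.le_norm_B (h.T_two j) (h.B_le_T j)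

theorem T_norm_W (j l : Fin k) : TY S Z j ≤ normalizer (W l : Set G) := fun _ ht =>
  mem_normalizer_iff_cj.2 (h.fixB (h.T_norm_B j ht) ht.2 l).1

theorem T_norm_Z (j l : Fin k) : TY S Z j ≤ normalizer (Z l : Set G) := fun _ ht =>
  mem_normalizer_iff_cj.2 (h.fixB (h.T_norm_B j ht) ht.2 l).2

theorem cj_T {s : G} (hs : s ∈ (S : Subgroup G)) {σ : Equiv.Perm (Fin k)} (hσ : ∀ l, cj s (Z l) = Z (σ l))
    (j : Fin k) : cj s (TY S Z j) = TY S Z (σ j) := by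
  unfold TY
  rw [cj_inf, cj_YQ hσ j, cj_eq_of_mem_normalizer (Subgroup.le_normalizer hs)]

/-- **`S` is transitive** -/
theorem conj_S (i j : Fin k) : ∃ s ∈ (S : Subgroup G), ∃ σ : Equiv.Perm (Fin k), σ i = j ∧ ∀ l,
    cj s (W l) = W (σ l) ∧ cj s (Z l) = Z (σ l) ∧ cj s (YQ Z l) = YQ Z (σ l) ∧ cj s (NQ Z l) = NQ Z (σ l) ∧
      cj s (TY S Z l) = TY S Z (σ l) := by
  obtain ⟨s, hs, e⟩ := h.bg.trans i j
  obtain ⟨σ, hσ⟩ := h.conj (h.bg.S_norm_B hs)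
  refine ⟨s, hs, σ, h.bg.W_inj (by rw [← (hσ i).1, e]), fun l => ⟨(hσ l).1, (hσ l).2.1, (hσ l).2.2.1, (hσ l).2.2.2,
    h.cj_T hs (fun l => (hσ l).2.1) l⟩⟩

theorem card_T (i j : Fin k) : Nat.card (TY S Z i) = Nat.card (TY S Z j) := by
  obtain ⟨s, -, σ, rfl, hσ⟩ := h.conj_S i j
  rw [← (hσ i).2.2.2.2, card_cj]

/-- **`T_j` is a Sylow 2-subgroup of `Y_j`** -/
theorem syl (j : Fin k) : Syl (TY S Z j) (YQ Z j) := by
  refine ⟨inf_le_right, h.T_two j, fun R hR h2 hle => ?_⟩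
  symm
  refine Subgroup.eq_of_le_of_card_ge hle ?_
  have hBR : B ≤ R := (h.B_le_T j).trans hle
  have h1 : R ≤ normalizer (B : Set G) := h.bg.le_norm_B h2 hBR
  obtain ⟨R', hR', hle'⟩ := exists_syl h2 h1
  have hS : Syl (S : Subgroup G) (normalizer (B : Set G)) :=
    ⟨h.bg.S_norm_B, S.isPGroup', fun _ _ hT hST => S.is_maximal' hT hST⟩
  obtain ⟨x, hx, e⟩ := syl_conj hR' hS
  obtain ⟨σ, hσ⟩ := h.conj hx
  have h3 : cj x R ≤ TY S Z (σ j) := by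
    refine le_inf ?_ ?_
    · rw [← e]
      exact cj_mono x hle'
    · rw [← (hσ j).2.2.1]
      exact cj_mono x hR
  rw [← card_cj x R, h.card_T j (σ j)]
  exact Subgroup.card_le_of_le h3

/-- `C_{Z_j}(T_j) ≠ 1` -/
theorem exists_m (j : Fin k) : ∃ m ∈ Z j, m ≠ 1 ∧ TY S Z j ≤ centralizer ({m} : Set G) := by
  have : Fact (Nat.Prime 2) := ⟨Nat.prime_two⟩
  set T := TY S Z j with hT
  have hZT : Z j ≤ T := (h.Z_le_B j).trans (h.B_le_T j)
  have hnil : Group.IsNilpotent T := (h.T_two j).isNilpotent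
  have hnor : ((Z j).subgroupOf T).Normal := normal_subgroupOf_of_le_normalizer (h.T_norm_Z j j)
  have hne : (Z j).subgroupOf T ≠ ⊥ := by
    rw [Ne, subgroupOf_eq_bot, disjoint_iff]
    intro e
    rw [inf_eq_left.2 hZT] at e
    exact h.bg.Z_ne j e
  have h1 := Lib.NormalAbelian.normal_inf_center_ne_bot ((Z j).subgroupOf T) hne
  obtain ⟨⟨⟨x, hx⟩, hxZ, hxc⟩, hx1⟩ := Subgroup.ne_bot_iff_exists_ne_one.1 h1
  refine ⟨x, mem_subgroupOf.1 hxZ, fun e => hx1 (Subtype.ext (Subtype.ext e)), fun t ht => ?_⟩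
  rw [mem_centralizer_singleton_iff]
  exact congrArg Subtype.val (mem_center_iff.1 hxc ⟨t, ht⟩)

end FrQ

end Cfsg.Agent.Omega.EK3.Q

end

section


/-!
# (E), `q ≥ 4` (bb #22041, #23165 (H)): the hypothesis `ti` of the frame `FrQ` from THEOREM Y

* `TOne ZJ Z` : **(T1)** if `Y ≤ Z_J` meets every `Z i` nontrivially, then `C_G(Y) ≤ N_G(Z_J)`;
* `Uni0 B ZJ Z C` : an FF-block over `B` moves every `z ∈ Z l`, `z ≠ 1`, for some `l`, and centralises `Z_J ⊓ C l`;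
  `uni0_of` : from `FrQ.uni`;
* `fixZ` : an element of `N_G(Z_J)` centralising some `z ∈ Z i`, `z ≠ 1`, normalises `Z i`;
* `cent_le_of` : generation of `C_G(Y)`, `Y ≤ Z_J`;
* `tOne_of` : (T1) from `C_G(Ω₁(Z(T))) ≤ N_G(Z_J)` for the 2-groups `T ≥ B` normalising every `Z i`;
* `ti_of` : **(T2)** `C_G(z) ⊓ C_ij ≤ N_G(Z i)` for `z ∈ Z i`, `z ≠ 1`, `i ≠ j`.  For `k = 2` this is `C_G(z) ≤ N_G(Z i)`.
-/

set_option autoImplicit false
set_option linter.unusedSectionVars false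

namespace Cfsg.Agent.Omega.EK3.Q

open Subgroup Cfsg Cfsg.Agent.ZN.ChoiceBase
open Cfsg.Agent.ZN (jj zj bau zc zl o2)
open Cfsg.Agent.ZN.ChoiceSit (Syl exists_syl le_o2 o2_le_syl isPGroup_o2 le_normalizer_o2)
open Cfsg.Agent.MinSimple.MinParabolic (IsMinPar)
open Cfsg.Agent.Omega.NO3S.EThree.Frame
open Cfsg.Agent.Omega.Node.MultiOf
open Cfsg.Agent.Omega.TC.OfMul (BlkS)

universe u

variable {G : Type u} [Group G]

/-- **(T1)** -/
def TOne {ι : Type} (ZJ : Subgroup G) (Z : ι → Subgroup G) : Prop :=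
  ∀ Y ≤ ZJ, (∀ i, ∃ z ∈ Z i, z ≠ 1 ∧ z ∈ Y) → centralizer (Y : Set G) ≤ normalizer (ZJ : Set G)

/-- The weak form of UNI+ -/
def Uni0 {ι : Type} (B ZJ : Subgroup G) (Z C : ι → Subgroup G) : Prop :=
  ∀ L' V' : Subgroup G, FBl B L' V' → ∃ l, (∀ z ∈ Z l, z ≠ 1 → ∃ x ∈ L', x * z ≠ z * x) ∧
    ∀ z ∈ ZJ, z ∈ C l → ∀ x ∈ L', x * z = z * x

section

variable [Finite G] {S : Sylow 2 G} {P K B ZJ : Subgroup G} {k : ℕ} {L W Z C : Fin k → Subgroup G} {q : ℕ}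

/-- An element of `N_G(Z_J)` which centralises some `z ∈ Z i`, `z ≠ 1`, normalises `Z i`. -/
theorem fixZ (h : Bg S P B ZJ L W Z C q) {g : G} (hg : g ∈ normalizer (ZJ : Set G)) {i : Fin k} {z : G}
    (hz : z ∈ Z i) (h1 : z ≠ 1) (hc : g * z = z * g) : g ∈ normalizer (Z i : Set G) := by
  obtain ⟨d, hd, hdg⟩ := NO3S.EMany.Four.exists_frattini h hg
  have hdi : d ∈ normalizer (Z i : Set G) := (mem_inf.1 (NO3S.EMany.Four.cent_le h i i hd)).1
  obtain ⟨j, hj, -⟩ := (h.nrm _ hdg).2 i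
  have hdz : d * z = z * d := (mem_centralizer_iff.1 hd z (h.fr.Z_le i hz)).symm
  have h2 : z ∈ Z j := by
    rw [← hj]
    refine ⟨z, hz, ?_⟩
    show d * g * z * (d * g)⁻¹ = z
    have : d * g * z = z * (d * g) := by rw [mul_assoc, hc, ← mul_assoc, hdz, mul_assoc]
    rw [this]; group
  have hij : i = j := by
    by_contra hne
    have h3 : z ∈ Z i ⊓ Z j := mem_inf.2 ⟨hz, h2⟩
    rw [h.Z_disj hne, mem_bot] at h3
    exact h1 h3
  subst hij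
  have h4 : d * g ∈ normalizer (Z i : Set G) := mem_normalizer_iff_cj.2 hj
  have h5 := mul_mem (inv_mem hdi) h4
  rwa [inv_mul_cancel_left] at h5

/-- an FF-block with module `W i` is natural -/
theorem uni0_of (h : Bg S P B ZJ L W Z C q)
    (hu : ∀ L' V' : Subgroup G, FBl B L' V' → ∃ i, V' = W i ∧ ∀ z ∈ ZJ, z ∈ C i → ∀ l ∈ L', l * z = z * l) :
    Uni0 B ZJ Z C := by
  intro L' V' hb
  obtain ⟨i, rfl, hc⟩ := hu L' V' hb
  obtain ⟨⟨Z', q', hF⟩, -⟩ := hb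
  refine ⟨i, fun z hz h1 => ?_, hc⟩
  have hZ' : Z' = Z i := by
    ext x
    rw [hF.toMd.mem_Z_iff, (h.fr.blk i).toMd.mem_Z_iff]
  subst hZ'
  have hq : q' = q := by
    have e1 := hF.card
    rw [(h.fr.blk i).card] at e1
    exact (Nat.eq_of_mul_eq_mul_left Nat.card_pos e1).symm
  subst hq
  obtain ⟨x, hx, hne, -⟩ := hF.exists_mv
  refine ⟨x, hx, fun hc => h1 ?_⟩
  have h2 : z ∈ cj x (Z i) ⊓ Z i := by
    refine mem_inf.2 ⟨⟨z, hz, ?_⟩, hz⟩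
    show x * z * x⁻¹ = z
    rw [hc]; group
  rwa [hF.nat_tri (h.fr.cardZ i) hx hne, mem_bot] at h2

/-- **Generation of `C_G(Y)`**, `1 ≠ Y ≤ Z_J`. -/
theorem cent_le_of (h : Bg S P B ZJ L W Z C q) (lb : OM.LevD.LB S K B ZJ)
    (blk : ∀ T : Subgroup G, B ≤ T → BlkS K B T) {Y₀ X : Subgroup G} (hYJ : Y₀ ≤ ZJ) (hYne : Y₀ ≠ ⊥)
    (hX : centralizer (Y₀ : Set G) ⊓ normalizer (ZJ : Set G) ≤ X)
    (hz : ∀ T Y : Subgroup G, Syl T (centralizer (Y₀ : Set G)) → B ≤ T → T ≤ normalizer (B : Set G) →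
      Y ≤ centralizer (Y₀ : Set G) → Y ≤ centralizer (zc T : Set G) → Y ≤ X)
    (hb : ∀ L' V' : Subgroup G, FBl B L' V' → L' ≤ centralizer (Y₀ : Set G) → L' ≤ X) :
    centralizer (Y₀ : Set G) ≤ X := by
  set H : Subgroup G := centralizer (Y₀ : Set G) with hH
  have hBH : B ≤ H := by
    rw [hH, le_centralizer_iff]
    exact hYJ.trans (le_centralizer_iff.1 lb.Bc)
  have hchar : H ⊓ centralizer (o2 H : Set G) ≤ o2 H :=
    OM.Swap.char2_cent h.hyp.ctx.char2 (lb.Bp.to_le (hYJ.trans lb.ZB)) hYne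
  obtain ⟨T, hT, hBT⟩ := exists_syl lb.Bp hBH
  have hTB : T ≤ normalizer (B : Set G) := lb.two_le hT.2.1 hBT
  have hTJ : T ≤ normalizer (ZJ : Set G) := hTB.trans h.norm_ZJ
  refine MinSimple.MinParabolic.le_of_forall hT.1 ?_ fun Y hY hYH => ?_
  · rintro x ⟨hx, hxT⟩
    exact hX ⟨hx, (lb.nrm T hT.2.1 (lb.KB.trans hBT)) hxT⟩
  have hTY : Syl T Y := ⟨hY.le, hT.2.1, fun Q hQ h2 hTQ => hT.2.2 Q (hQ.trans hYH) h2 hTQ⟩
  by_cases hK : K ≤ o2 Y
  · intro x hx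
    exact hX ⟨hYH hx, (lb.nrm _ (MinSimple.VModule.o2_isPGroup _) hK)
      (MinSimple.VModule.le_normalizer_o2 Y hx)⟩
  by_cases hZ : Y ≤ centralizer (zc T : Set G)
  · exact hz T Y hT hBT hTB hYH hZ
  · -- a block
    have hcY : Y ⊓ centralizer (o2 Y : Set G) ≤ o2 Y := by
      have h4 : o2 H ≤ o2 Y :=
        le_o2 (isPGroup_o2 H) ((o2_le_syl hT).trans hY.le) (hYH.trans (le_normalizer_o2 H))
      rintro x ⟨hx, hxc⟩
      exact h4 (hchar ⟨hYH hx, centralizer_le (by exact_mod_cast h4) hxc⟩)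
    obtain ⟨L', V', hb', h2, h3⟩ := blk T hBT Y hY hTY hcY hK hZ
    exact h3.trans (sup_le (hb L' V' hb' (h2.trans hYH)) fun x hx => hX ⟨hT.1 hx, hTJ hx⟩)

/-- **(T1)** from `C_G(Ω₁(Z(T))) ≤ N_G(Z_J)`. -/
theorem tOne_of (h : Bg S P B ZJ L W Z C q) (lb : OM.LevD.LB S K B ZJ)
    (blk : ∀ T : Subgroup G, B ≤ T → BlkS K B T) (uni : Uni0 B ZJ Z C) (hk : 0 < k)
    (hT : ∀ T : Subgroup G, IsPGroup 2 T → B ≤ T → (∀ i, T ≤ normalizer (Z i : Set G)) →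
      centralizer (zc T : Set G) ≤ normalizer (ZJ : Set G)) : TOne ZJ Z := by
  intro Y₀ hYJ hYi
  have hYne : Y₀ ≠ ⊥ := by
    rintro rfl
    obtain ⟨z, -, h1, h2⟩ := hYi ⟨0, hk⟩
    exact h1 (mem_bot.1 h2)
  refine cent_le_of h lb blk hYJ hYne inf_le_right ?_ ?_
  · intro T Y hTH hBT hTB _ hY
    refine hY.trans (hT T hTH.2.1 hBT fun i x hx => ?_)
    obtain ⟨z, hz, h1, h2⟩ := hYi i
    exact fixZ h (h.norm_ZJ (hTB hx)) hz h1 (mem_centralizer_iff.1 (hTH.1 hx) z h2).symm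
  · intro L' V' hb hL'
    obtain ⟨l, hno, -⟩ := uni L' V' hb
    obtain ⟨z, hz, h1, h2⟩ := hYi l
    obtain ⟨x, hx, hne⟩ := hno z hz h1
    exact absurd (mem_centralizer_iff.1 (hL' hx) z h2).symm hne

/-- **(T2)** from the frame `Bg`. -/
theorem ti_of_bg (h : Bg S P B ZJ L W Z C q) (lb : OM.LevD.LB S K B ZJ)
    (blk : ∀ T : Subgroup G, B ≤ T → BlkS K B T) (uni : Uni0 B ZJ Z C) (t1 : TOne ZJ Z)
    (i j : Fin k) (hij : i ≠ j) (z : G) (hz : z ∈ Z i) (h1 : z ≠ 1) :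
    centralizer ({z} : Set G) ⊓ CQ Z i j ≤ normalizer (Z i : Set G) := by
  classical
  set Y₀ : Subgroup G := zpowers z ⊔ ⨆ l : {l : Fin k // l ≠ i ∧ l ≠ j}, Z l with hY₀
  have hzY : z ∈ Y₀ := mem_sup_left (mem_zpowers z)
  have hlY : ∀ l, l ≠ i → l ≠ j → Z l ≤ Y₀ := fun l h1 h2 =>
    (le_iSup (fun l : {l : Fin k // l ≠ i ∧ l ≠ j} => Z l) ⟨l, h1, h2⟩).trans le_sup_right
  have hYJ : Y₀ ≤ ZJ := sup_le (by rw [zpowers_le]; exact h.fr.Z_le i hz) (iSup_le fun l => h.fr.Z_le l)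
  have hYne : Y₀ ≠ ⊥ := by
    intro e
    rw [e, mem_bot] at hzY
    exact h1 hzY
  set H : Subgroup G := centralizer (Y₀ : Set G) with hH
  have hle : centralizer ({z} : Set G) ⊓ CQ Z i j ≤ H := by
    rw [hH, le_centralizer_iff, hY₀]
    refine sup_le ?_ (iSup_le fun l => ?_)
    · rw [zpowers_le, mem_centralizer_iff]
      intro x hx
      exact mem_centralizer_singleton_iff.1 (mem_inf.1 hx).1
    · rw [le_centralizer_iff]
      exact inf_le_right.trans (CQ_cent l.2.1 l.2.2)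
  have hcz : ∀ x ∈ H, x * z = z * x := fun x hx => (mem_centralizer_iff.1 hx z hzY).symm
  have hcl : ∀ l, l ≠ i → l ≠ j → ∀ x ∈ H, ∀ y ∈ Z l, x * y = y * x := fun l h1 h2 x hx y hy =>
    (mem_centralizer_iff.1 hx y (hlY l h1 h2 hy)).symm
  have hfix : ∀ x ∈ H, x ∈ normalizer (ZJ : Set G) → x ∈ normalizer (Z i : Set G) := fun x hx hxJ =>
    fixZ h hxJ hz h1 (hcz x hx)
  refine hle.trans (cent_le_of h lb blk hYJ hYne (fun x hx => hfix x hx.1 hx.2) ?_ ?_)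
  · -- `Y` centralises an element of every `Z l`
    intro T Y hT hBT hTB hYH hZ
    have hTj : ∀ x ∈ T, ∀ v ∈ Z j, x * v * x⁻¹ ∈ Z j := by
      intro x hx v hv
      obtain ⟨m, hm, -⟩ := (h.nrm x (hTB hx)).2 j
      have hmj : m = j := by
        by_contra hmj
        -- `x` fixes `Z m` (`m ≠ j`)
        have hxm : cj x (Z m) = Z m := by
          by_cases hmi : m = i
          · rw [hmi]
            exact mem_normalizer_iff_cj.1 (hfix x (hT.1 hx) (h.norm_ZJ (hTB hx)))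
          · refine Subgroup.eq_of_le_of_card_ge ?_ (by rw [card_cj])
            rintro _ ⟨y, hy, rfl⟩
            show x * y * x⁻¹ ∈ Z m
            rw [hcl m hmi hmj x (hT.1 hx) y hy]
            have : y * x * x⁻¹ = y := by group
            rwa [this]
        have h3 : Z j = Z m := by
          have h4 : cj x⁻¹ (cj x (Z j)) = cj x⁻¹ (cj x (Z m)) := by rw [hm, hxm]
          rwa [cj_inv_cj, cj_inv_cj] at h4
        exact hmj (h.Z_inj h3).symm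
      subst hmj
      rw [← hm]
      exact ⟨v, hv, rfl⟩
    obtain ⟨y, hy, hy1, hyT⟩ := NO3S.EMany.Four.exists_fix hT.2.1 (h.Z_two j) (h.Z_ne j) hTj
    have hyc : y ∈ zc T := by
      refine mem_zc.2 ⟨hBT ((h.fr.blk j).VB ((h.fr.blk j).ZV hy)), h.fr.Vsq (h.fr.ZV j hy), fun x hx => ?_⟩
      have h2 := hyT x hx
      calc x * y = x * y * x⁻¹ * x := by group
        _ = y * x := by rw [h2]
    have h3 : Y ≤ normalizer (ZJ : Set G) := by
      refine le_trans ?_ (t1 (ZJ ⊓ centralizer (Y : Set G)) inf_le_left fun l => ?_)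
      · rw [le_centralizer_iff]
        exact inf_le_right
      · by_cases hlj : l = j
        · subst hlj
          refine ⟨y, hy, hy1, mem_inf.2 ⟨h.fr.Z_le l hy, mem_centralizer_iff.2 fun x hx => ?_⟩⟩
          exact (mem_centralizer_iff.1 (hZ hx) y hyc).symm
        by_cases hli : l = i
        · subst hli
          exact ⟨z, hz, h1, mem_inf.2 ⟨h.fr.Z_le l hz, mem_centralizer_iff.2 fun x hx => hcz x (hYH hx)⟩⟩
        · obtain ⟨v, hv, hv1⟩ : ∃ v ∈ Z l, v ≠ 1 := by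
            by_contra hcon
            push Not at hcon
            exact h.Z_ne l ((eq_bot_iff_forall _).2 hcon)
          exact ⟨v, hv, hv1, mem_inf.2 ⟨h.fr.Z_le l hv, mem_centralizer_iff.2 fun x hx =>
            hcl l hli hlj x (hYH hx) v hv⟩⟩
    exact fun x hx => hfix x (hYH hx) (h3 hx)
  · -- a block
    intro L' V' hb hL'H
    obtain ⟨l, hno, hlc⟩ := uni L' V' hb
    have hlj : l = j := by
      by_contra hlj
      by_cases hli : l = i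
      · subst hli
        obtain ⟨x, hx, hne⟩ := hno z hz h1
        exact hne (hcz x (hL'H hx))
      · obtain ⟨v, hv, hv1⟩ : ∃ v ∈ Z l, v ≠ 1 := by
          by_contra hcon
          push Not at hcon
          exact h.Z_ne l ((eq_bot_iff_forall _).2 hcon)
        obtain ⟨x, hx, hne⟩ := hno v hv hv1
        exact hne (hcl l hli hlj x (hL'H hx) v hv)
    subst hlj
    refine le_trans ?_ (centralizer_le_normalizer (Z i : Set G))
    intro x hx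
    refine mem_centralizer_iff.2 fun y hy => ?_
    exact (hlc y (h.fr.Z_le i hy) (h.fr.WjC l i hij.symm ((h.fr.blk i).ZV hy)) x hx).symm

/-- **(T2)** over `Mul`. -/
theorem ti_of (h : Mul S P K B ZJ L W Z C q) (blk : ∀ T : Subgroup G, B ≤ T → BlkS K B T) (uni : Uni0 B ZJ Z C)
    (t1 : TOne ZJ Z) : ∀ i j, i ≠ j → ∀ z ∈ Z i, z ≠ 1 →
      centralizer ({z} : Set G) ⊓ CQ Z i j ≤ normalizer (Z i : Set G) := fun i j hij z hz h1 =>
  ti_of_bg h.bg h.lb blk uni t1 i j hij z hz h1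

end

end Cfsg.Agent.Omega.EK3.Q

end

section


/-!
# NO-3S, MultiQL, case (E), `q ≥ 4`: UNI+ and block generation over `Mul`, every stage, no hypothesis

* `UniB` : UNI+ in the form of `FrQ.uni`;  `UniB.of_bg` : independent of the frame over `(B, ZJ)`;
* **`uni_mul`** : `Mul .. q`, `2 ≤ k`, `2 < q` give `UniB B ZJ W C`;
* **`blk_mul`** : `Mul .. q`, `2 ≤ k`, `2 < q` give `BlkS K B T` for EVERY `T ≥ B`.
-/

set_option autoImplicit false
set_option linter.unusedSectionVars false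

namespace Cfsg.Agent.Omega.EK3.Q.OfMul

open Subgroup Cfsg Cfsg.Agent.ZN.ChoiceBase
open Cfsg.Agent.ZN (jj zj bau zc zl o2)
open Cfsg.Agent.ZN.ChoiceSit (Syl)
open Cfsg.Agent.Omega.OM Cfsg.Agent.Omega.OM.Uni
open Cfsg.Agent.Omega.NO3S (HypJ HypN Hyp HypL)
open Cfsg.Agent.Omega.NO3S.Level (lev)
open Cfsg.Agent.Omega.NO3S.EThree.Frame (Bg Bs)
open Cfsg.Agent.MinSimple.MinParabolic (IsMinPar)
open Cfsg.Agent.Omega.Node.MultiOf
open Cfsg.Agent.Omega.TC.OfMul (BlkS)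
open Cfsg.Agent.Omega.OM.SwapL (Ln BL ZL)
open scoped Pointwise

universe u

variable {G : Type u} [Group G]

/-- UNI+ in the form of `FrQ.uni`. -/
def UniB {k : ℕ} (B ZJ : Subgroup G) (W C : Fin k → Subgroup G) : Prop :=
  ∀ L' V' : Subgroup G, FBl B L' V' → ∃ i, V' = W i ∧ ∀ z ∈ ZJ, z ∈ C i → ∀ l ∈ L', l * z = z * l

variable [Finite G] {S : Sylow 2 G} {P K B ZJ : Subgroup G} {k : ℕ} {L W Z C : Fin k → Subgroup G} {q : ℕ}

/-- `UniB` from `UniP` (no (TI)) -/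
theorem uni_of (h : Bg S P B ZJ L W Z C q) (hq : 2 < q)
    (hu : ∀ L' V' : Subgroup G, FBl B L' V' → ∃ i, UniPlus.NB B L' V' (Z i) q ∧ V' ≤ W i ⊔ ZJ ∧
      ∀ z ∈ ZJ, z ∈ C i → ∀ l ∈ L', l * z = z * l) : UniB B ZJ W C := by
  intro L' V' hb
  obtain ⟨i, hN, hV, hcen⟩ := hu L' V' hb
  exact ⟨i, NO3S.EMany.FourDQ.V_eq h hq hN hV hcen, hcen⟩

/-- `UniB` does not depend on the frame over `(B, ZJ)`. -/
theorem UniB.of_bg {P₁ : Subgroup G} {L₁ W₁ Z₁ C₁ : Fin k → Subgroup G} {q₁ : ℕ} (hu : UniB B ZJ W₁ C₁)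
    (h₁ : Bg S P₁ B ZJ L₁ W₁ Z₁ C₁ q₁) (h : Bg S P B ZJ L W Z C q) : UniB B ZJ W C := by
  -- the frames have the same `W`
  have h1 : ∀ i, ∃ j, W i = W₁ j ∧ ∀ z ∈ ZJ, z ∈ C₁ j → z ∈ C i := by
    intro i
    obtain ⟨j, hj, hc⟩ := hu (L i) (W i) ⟨⟨_, _, h.fr.blk i⟩, h.block i⟩
    exact ⟨j, hj, fun z hz hzC => (NO3S.EThree.NonLocQ.mem_C_iff h hz).2 fun l hl => hc z hz hzC l hl⟩
  choose σ hσ using h1
  have hinj : Function.Injective σ := fun a b e => by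
    by_contra hab
    have h2 : W a = W b := by rw [(hσ a).1, (hσ b).1, e]
    have h3 : W a ≤ C b := h.fr.WjC b a (Ne.symm hab)
    have h4 : W b ≤ W b ⊓ C b := le_inf le_rfl (h2 ▸ h3)
    rw [h.fr.dir b] at h4
    exact h.Z_ne b (le_bot_iff.1 ((h.fr.blk b).ZV.trans h4))
  have hsur : Function.Surjective σ := Finite.surjective_of_injective hinj
  -- `C i ∩ ZJ = C₁ (σ i) ∩ ZJ`
  have hC : ∀ i, ∀ z ∈ ZJ, z ∈ C i → z ∈ C₁ (σ i) := by
    intro i z hz hzC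
    obtain ⟨w, hw, c, hc, hcJ, e⟩ := h₁.fr.split_ZJ (σ i) hz
    have hw' : w ∈ W i := by
      rw [(hσ i).1]
      exact (h₁.fr.blk (σ i)).ZV hw
    have hc' : c ∈ C i := (hσ i).2 c hcJ hc
    have h2 : w ∈ W i ⊓ C i := by
      refine mem_inf.2 ⟨hw', ?_⟩
      have h3 : w = z * c⁻¹ := by rw [e]; group
      rw [h3]
      exact mul_mem hzC (inv_mem hc')
    rw [h.fr.dir i, mem_bot] at h2
    rw [e, h2, one_mul]
    exact hc
  intro L' V' hb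
  obtain ⟨j, hj, hcen⟩ := hu L' V' hb
  obtain ⟨i, rfl⟩ := hsur j
  exact ⟨i, hj.trans (hσ i).1.symm, fun z hz hzC => hcen z hz (hC i z hz hzC)⟩

/-- **UNI+ over `Mul`**, every stage. -/
theorem uni_mul (h : Mul S P K B ZJ L W Z C q) (hk : 2 ≤ k) (hq : 2 < q) : UniB B ZJ W C := by
  obtain ⟨F, _, _, _, rfl, ⟨N⟩⟩ := h.nat
  cases h.stg with
  | neg hj =>
    obtain ⟨L₁, Z₁, A₁, hB, hZ, -, -⟩ := NO3S.EThree.Frame.exists_bs ⟨h.hyp.toHypN, hj⟩ hk N.toNatK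
    have hbg := Bg.of_bs hB fun _ i => NO3S.EThree.Frame.scal ⟨h.hyp.toHypN, hj⟩ (by omega) N.toNatK hZ i
    refine UniB.of_bg (uni_of hbg hq ?_) hbg h.bg
    rintro L' V' ⟨⟨Z', q', hF⟩, -⟩
    obtain ⟨i, rfl, hN, hV, hc⟩ := uniP_neg hB hq L' V' Z' q' hF
    exact ⟨i, hN, hV, hc⟩
  | lev n hall hn hn1 =>
    obtain ⟨M, L₁, Z₁, A₁, -, hfr, hbg, -⟩ := Lev.Main.bg_lev h.hyp.toHypN hn hn1 hk N rfl
    refine UniB.of_bg (uni_of hbg hq ?_) hbg h.bg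
    intro L' V' hb
    obtain ⟨Z', hF, i, rfl, hN, hV, hc, -⟩ := TC.UniLev.uni_all S rfl rfl hfr hb
    exact ⟨i, hN, hV, fun z hz hzC => (hc z hz).1 hzC⟩

/-- stage `-1`: block generation over every `T ≥ B` -/
theorem blk_neg (S : Sylow 2 G) {T : Subgroup G} (hBT : bau (S : Subgroup G) ≤ T) :
    BlkS (jj (S : Subgroup G)) (bau (S : Subgroup G)) T := by
  intro R hR hT hc hK hZ
  have hjj : jj T = jj (S : Subgroup G) := LemmaK.Main.jj_eq S hT.2.1 hBT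
  obtain ⟨L', V', hb, h1, h2⟩ := TC.UniOne.blkGenS FF.Glob.ffthm S hT hBT hR hc (by rw [hjj]; exact hK) hZ
  exact ⟨L', V', ⟨hb.fb, hb.blk⟩, h1, h2⟩

/-- stage `n`: block generation over every `T ≥ B` -/
theorem blk_lev {n : ℕ} {A : Fin k → Subgroup G} (h : Ln S P n L W Z C A q) (hq : 2 < q) {T : Subgroup G}
    (hBT : BL (S : Subgroup G) n ≤ T) : BlkS (lev (S : Subgroup G) (n + 1)) (BL (S : Subgroup G) n) T := by
  intro R hR hT hc hK hZ
  have hlow := Lev.Low.low_four h hq hT hBT hR hc hZ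
  obtain ⟨L', V', h1, ⟨h2, h3⟩, h4⟩ := LevB.exists_fblk S hT hBT hR hc hlow hK hZ
  exact ⟨L', V', ⟨h2, h3⟩, h1, h4.trans (sup_comm _ _).le⟩

/-- **Block generation over `Mul`**, every stage, every `T ≥ B`. -/
theorem blk_mul (h : Mul S P K B ZJ L W Z C q) (hk : 2 ≤ k) (hq : 2 < q) {T : Subgroup G} (hT : B ≤ T) :
    BlkS K B T := by
  obtain ⟨F, _, _, _, rfl, ⟨N⟩⟩ := h.nat
  cases h.stg with
  | neg hj => exact blk_neg S hT
  | lev n hall hn hn1 =>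
    obtain ⟨M, L₁, Z₁, A₁, -, hfr, hbg, -⟩ := Lev.Main.bg_lev h.hyp.toHypN hn hn1 hk N rfl
    exact blk_lev ⟨h.hyp.toHypN, hn, hfr, hbg.two⟩ hq hT

end Cfsg.Agent.Omega.EK3.Q.OfMul

end
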