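import Cfsg.Agent.Mrg.Omega.NO3S.EThree.Frame
import Cfsg.Agent.Mrg.Omega.NOne.LemmaT


/-!
# NO-3S, `V_P` a sum of `k ≥ 3` natural modules, all `q`: the local groups `C_ij` (bb OMEGA #22703 (0'), #22123 (0))

Over the frame `Bg S P B ZJ L W Z C q` (every level, every `q`, any finite index type `ι`), for `i ≠ j` and a third
index `l`: `YI Z j = C_G(Z l : l ≠ j)`, `CI Z i j = C_G(Z l : l ≠ i, j)`, `EI Z ZJ i j = ⟨ZJ ^ CI Z i j⟩`.

* `char2_CI` : `CI` has characteristic 2;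
* `o2CI_le_B` : `O₂(C_ij) ≤ B`, it centralises `W i`, `W j`, `ZJ`;
* `EI_le` : `E_ij ≤ Ω₁Z(O₂(C_ij))`; `o2CI_le_Y`, `o2CI_le_O` : `O₂(C_ij) ≤ O₂(Y_i) ∩ O₂(Y_j) ∩ O₂(C_G(ZJ))`;
* `W_le_EI`, `N_le_EI`, `WW_le_EI` : `W i`, `⟨Z_j^{Y_j}⟩`, `⟨W_i^{Y_j}⟩` lie in `E_ij`;
* `N_le_Q` : `⟨Z_j^{Y_j}⟩ ≤ O₂(P)`;
* `o2Y_le_B`, `comm_WW` : `O₂(Y_j) ≤ B` centralises `W j`, `[⟨W_i^{Y_j}⟩, O₂(Y_j)] ≤ Z i`.
-/

set_option autoImplicit false
set_option linter.unusedSectionVars false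

namespace Cfsg.Agent.Omega.EK3.Q.Loc

open Subgroup Cfsg Cfsg.Agent.ZN.ChoiceBase
open Cfsg.Agent.ZN (zc zl o2)
open Cfsg.Agent.ZN.ChoiceSit (Syl isPGroup_o2 le_o2 le_normalizer_o2 o2_le zc_le)
open Cfsg.Agent.Omega.OM Cfsg.Agent.Omega.OM.Uni
open Cfsg.Agent.Omega.NO3S.EThree.Frame
open Cfsg.Agent.Omega.NoFF.Basic (V V_le Z_le_V)
open scoped Pointwise

universe u

variable {G : Type u} [Group G] {ι : Type}

/-- `Y_j = C_G(Z l : l ≠ j)` -/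
def YI (Z : ι → Subgroup G) (j : ι) : Subgroup G := ⨅ l : {l : ι // l ≠ j}, centralizer (Z l : Set G)

/-- `C_ij = C_G(Z l : l ≠ i, j)` -/
def CI (Z : ι → Subgroup G) (i j : ι) : Subgroup G := ⨅ l : {l : ι // l ≠ i ∧ l ≠ j}, centralizer (Z l : Set G)

/-- `E_ij = ⟨ZJ ^ C_ij⟩` -/
def EI (Z : ι → Subgroup G) (ZJ : Subgroup G) (i j : ι) : Subgroup G := V ZJ (CI Z i j)

variable {Z : ι → Subgroup G}

theorem mem_YI {j : ι} {x : G} : x ∈ YI Z j ↔ ∀ l, l ≠ j → ∀ z ∈ Z l, z * x = x * z := by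
  unfold YI
  rw [Subgroup.mem_iInf]
  constructor
  · exact fun h l hl z hz => mem_centralizer_iff.1 (h ⟨l, hl⟩) z hz
  · exact fun h l => mem_centralizer_iff.2 fun z hz => h l.1 l.2 z hz

theorem mem_CI {i j : ι} {x : G} : x ∈ CI Z i j ↔ ∀ l, l ≠ i → l ≠ j → ∀ z ∈ Z l, z * x = x * z := by
  unfold CI
  rw [Subgroup.mem_iInf]
  constructor
  · exact fun h l hl hl' z hz => mem_centralizer_iff.1 (h ⟨l, hl, hl'⟩) z hz
  · exact fun h l => mem_centralizer_iff.2 fun z hz => h l.1 l.2.1 l.2.2 z hz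

theorem YI_le_left (i j : ι) : YI Z i ≤ CI Z i j := fun _ hx => mem_CI.2 fun l hl _ => mem_YI.1 hx l hl

theorem YI_le_right (i j : ι) : YI Z j ≤ CI Z i j := fun _ hx => mem_CI.2 fun l _ hl => mem_YI.1 hx l hl

theorem CI_symm (i j : ι) : CI Z i j = CI Z j i := by
  ext x
  rw [mem_CI, mem_CI]
  exact ⟨fun h l h1 h2 => h l h2 h1, fun h l h1 h2 => h l h2 h1⟩

theorem YI_inf (i j : ι) (hij : i ≠ j) : YI Z i ⊓ YI Z j ≤ centralizer ((⨆ l, Z l : Subgroup G) : Set G) := by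
  rintro x ⟨hi, hj⟩
  rw [← Subgroup.zpowers_le]
  rw [Subgroup.le_centralizer_iff]
  refine iSup_le fun l z hz => mem_centralizer_iff.2 ?_
  rintro _ ⟨n, rfl⟩
  have h1 : z * x = x * z := by
    by_cases hl : l = i
    · exact mem_YI.1 hj l (hl ▸ hij) z hz
    · exact mem_YI.1 hi l hl z hz
  exact ((show Commute z x from h1).zpow_right n).symm

/-- `V Z P` is normalised by `P` -/
theorem le_normalizer_V (A X : Subgroup G) : X ≤ normalizer (V A X : Set G) := by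
  intro x hx
  rw [mem_normalizer_iff_cj]
  have h1 : ∀ y ∈ X, cj y (V A X) ≤ V A X := by
    intro y hy
    have h2 := NoFF.Basic.conj_V_mul (Z := A) (P := X) (g := 1) hy
    rw [one_mul, map_one, one_smul] at h2
    exact h2.le
  refine le_antisymm (h1 x hx) ?_
  have h3 := cj_mono x (h1 x⁻¹ (inv_mem hx))
  rwa [cj_cj_inv] at h3

theorem le_V (A X : Subgroup G) : A ≤ V A X := by
  have := Z_le_V (Z := A) (one_mem X)
  rwa [map_one, one_smul] at this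

theorem cj_le_V {A X : Subgroup G} {x : G} (hx : x ∈ X) : cj x A ≤ V A X := Z_le_V (Z := A) hx

theorem V_mono {A A' X X' : Subgroup G} (hA : A ≤ A') (hX : X ≤ X') : V A X ≤ V A' X' :=
  V_le fun _ hp => (cj_mono _ hA).trans (cj_le_V (hX hp))

theorem V_le_of_normal {A N X : Subgroup G} (hA : A ≤ N) (hX : X ≤ normalizer (N : Set G)) : V A X ≤ N :=
  V_le fun p hp => (cj_mono p hA).trans (mem_normalizer_iff_cj.1 (hX hp)).le

section frame

variable [Finite G] {S : Sylow 2 G} {P B ZJ : Subgroup G} {L W C : ι → Subgroup G} {q : ℕ}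
  (h : Bg S P B ZJ L W Z C q)
include h

/-- `C_G(ZJ) ≤ Y_j` -/
theorem D_le_Y (j : ι) : centralizer (ZJ : Set G) ≤ YI Z j := fun _ hx => mem_YI.2 fun l _ z hz =>
  mem_centralizer_iff.1 hx z (h.fr.Z_le l hz)

theorem D_le_C (i j : ι) : centralizer (ZJ : Set G) ≤ CI Z i j := (D_le_Y h j).trans (YI_le_right i j)

theorem B_le_D : B ≤ centralizer (ZJ : Set G) := h.eqB.le.trans inf_le_right

theorem B_le_Y (j : ι) : B ≤ YI Z j := (B_le_D h).trans (D_le_Y h j)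

theorem B_le_C (i j : ι) : B ≤ CI Z i j := (B_le_D h).trans (D_le_C h i j)

theorem L_le_Y (j : ι) : L j ≤ YI Z j := fun x hx => mem_YI.2 fun l hl z hz =>
  (h.fr.LC j x hx z (h.fr.Z_le l hz) (h.fr.WjC j l hl.symm ((h.fr.blk l).ZV hz))).symm

theorem L_le_left (i j : ι) : L i ≤ CI Z i j := (L_le_Y h i).trans (YI_le_left i j)

theorem L_le_right (i j : ι) : L j ≤ CI Z i j := (L_le_Y h j).trans (YI_le_right i j)

theorem Z_comm {i l : ι} {z w : G} (hz : z ∈ Z i) (hw : w ∈ Z l) : z * w = w * z :=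
  h.fr.Vc (h.fr.ZV i hz) (h.fr.ZV l hw)

theorem ZJ_comm {z w : G} (hz : z ∈ ZJ) (hw : w ∈ ZJ) : z * w = w * z := h.fr.Vc (h.fr.ZJV hz) (h.fr.ZJV hw)

theorem ZJ_le_D : ZJ ≤ centralizer (ZJ : Set G) := fun _ hz => mem_centralizer_iff.2 fun _ hw => ZJ_comm h hw hz

theorem ZJ_le_iSup [Finite ι] : ZJ ≤ ⨆ l, Z l := by
  classical
  have := Fintype.ofFinite ι
  have key : ∀ s : Finset ι, ∀ v ∈ ZJ, ∃ w ∈ (⨆ l, Z l), w ∈ ZJ ∧ ∀ i ∈ s, w⁻¹ * v ∈ C i := by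
    intro s
    induction s using Finset.induction_on with
    | empty => exact fun v _ => ⟨1, one_mem _, one_mem _, fun i hi => by simp at hi⟩
    | insert j s hj ih =>
      intro v hv
      obtain ⟨w, hw, hwJ, hwC⟩ := ih v hv
      obtain ⟨a, ha, c, hc, -, e⟩ := h.fr.split_ZJ j (mul_mem (inv_mem hwJ) hv)
      refine ⟨w * a, mul_mem hw ((le_iSup Z j) ha), mul_mem hwJ (h.fr.Z_le j ha), fun i hi => ?_⟩
      have e1 : (w * a)⁻¹ * v = a⁻¹ * (w⁻¹ * v) := by group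
      rw [e1]
      rcases Finset.mem_insert.1 hi with rfl | hi
      · rw [e]
        have : a⁻¹ * (a * c) = c := by group
        rw [this]
        exact hc
      · have hij : i ≠ j := fun e => hj (e ▸ hi)
        exact mul_mem (inv_mem (h.fr.WjC i j hij ((h.fr.blk j).ZV ha))) (hwC i hi)
  intro v hv
  obtain ⟨w, hw, hwJ, hwC⟩ := key Finset.univ v hv
  have h1 := h.fr.C0 (w⁻¹ * v) (h.fr.ZJV (mul_mem (inv_mem hwJ) hv)) fun i => hwC i (Finset.mem_univ i)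
  have h2 : v = w := (inv_mul_eq_one.1 h1).symm
  rw [h2]
  exact hw

/-- an element of `C_ij` centralising `Z i`, `Z j` centralises `ZJ` -/
theorem mem_D [Finite ι] {i j : ι} {x : G} (hx : x ∈ CI Z i j) (hi : ∀ z ∈ Z i, z * x = x * z)
    (hj : ∀ z ∈ Z j, z * x = x * z) : x ∈ centralizer (ZJ : Set G) := by
  have h1 : (⨆ l, Z l) ≤ centralizer ({x} : Set G) := by
    refine iSup_le fun l z hz => mem_centralizer_iff.2 fun y hy => ?_
    rw [Set.mem_singleton_iff.1 hy]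
    by_cases hli : l = i
    · subst hli; exact (hi z hz).symm
    · by_cases hlj : l = j
      · subst hlj; exact (hj z hz).symm
      · exact (mem_CI.1 hx l hli hlj z hz).symm
  exact mem_centralizer_iff.2 fun z hz =>
    (mem_centralizer_iff.1 (h1 (ZJ_le_iSup h hz)) x (Set.mem_singleton x)).symm

/-- **`C_ij` has characteristic 2** (there is a third index). -/
theorem char2_CI {i j l : ι} (hi : l ≠ i) (hj : l ≠ j) :
    CI Z i j ⊓ centralizer (o2 (CI Z i j) : Set G) ≤ o2 (CI Z i j) := by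
  set U : Subgroup G := ⨆ m : {m : ι // m ≠ i ∧ m ≠ j}, Z m with hU
  have e : CI Z i j = centralizer (U : Set G) := by
    apply le_antisymm
    · rw [Subgroup.le_centralizer_iff, hU]
      refine iSup_le fun m z hz => mem_centralizer_iff.2 fun x hx => ?_
      exact (mem_CI.1 hx m.1 m.2.1 m.2.2 z hz).symm
    · intro x hx
      refine mem_CI.2 fun m hmi hmj z hz => mem_centralizer_iff.1 hx z ?_
      exact (le_iSup (fun m : {m : ι // m ≠ i ∧ m ≠ j} => Z m) ⟨m, hmi, hmj⟩) hz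
  have hUV : U ≤ ZJ := iSup_le fun m => h.fr.Z_le m
  have hU2 : IsPGroup 2 U := h.bau_two.to_le (hUV.trans (h.fr.ZJV.trans h.fr.VB))
  have hU1 : U ≠ ⊥ := by
    intro h0
    apply h.Z_ne l
    rw [eq_bot_iff, ← h0]
    exact le_iSup (fun m : {m : ι // m ≠ i ∧ m ≠ j} => Z m) ⟨l, hi, hj⟩
  rw [e]
  exact NOne.LemmaT.char2_centralizer h.hyp.ctx.char2 hU2 hU1

theorem o2CI_cent_left (i j : ι) : o2 (CI Z i j) ≤ centralizer (W i : Set G) := by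
  have : Fact (Nat.Prime 2) := ⟨Nat.prime_two⟩
  exact (h.block i).le_centralizer (isPGroup_o2 _) ((L_le_left h i j).trans (le_normalizer_o2 _))

theorem o2CI_cent_right (i j : ι) : o2 (CI Z i j) ≤ centralizer (W j : Set G) := by
  have : Fact (Nat.Prime 2) := ⟨Nat.prime_two⟩
  exact (h.block j).le_centralizer (isPGroup_o2 _) ((L_le_right h i j).trans (le_normalizer_o2 _))

/-- `O₂(C_ij) ≤ C_G(ZJ)` -/
theorem o2CI_le_D [Finite ι] (i j : ι) : o2 (CI Z i j) ≤ centralizer (ZJ : Set G) := fun x hx =>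
  mem_D h (o2_le _ hx)
    (fun z hz => mem_centralizer_iff.1 (o2CI_cent_left h i j hx) z ((h.fr.blk i).ZV hz))
    (fun z hz => mem_centralizer_iff.1 (o2CI_cent_right h i j hx) z ((h.fr.blk j).ZV hz))

/-- a 2-subgroup of `C_G(ZJ)` normalised by `B` lies in `B` -/
theorem le_B_of {R : Subgroup G} (hR : IsPGroup 2 R) (hRD : R ≤ centralizer (ZJ : Set G))
    (hn : B ≤ normalizer (R : Set G)) : R ≤ B := by
  have : Fact (Nat.Prime 2) := ⟨Nat.prime_two⟩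
  have h1 : IsPGroup 2 ((B ⊔ R : Subgroup G)) := IsPGroup.to_sup_of_normal_right' h.bau_two hR hn
  have h2 := h.syl_B.2.2 _ (sup_le (B_le_D h) hRD) h1 le_sup_left
  rw [← h2]
  exact le_sup_right

/-- **`O₂(C_ij) ≤ B`** -/
theorem o2CI_le_B [Finite ι] (i j : ι) : o2 (CI Z i j) ≤ B :=
  le_B_of h (isPGroup_o2 _) (o2CI_le_D h i j) ((B_le_C h i j).trans (le_normalizer_o2 _))

/-- **`ZJ ≤ Ω₁Z(O₂(C_ij))`** -/
theorem ZJ_le_zc [Finite ι] {i j l : ι} (hi : l ≠ i) (hj : l ≠ j) : ZJ ≤ zc (o2 (CI Z i j)) := by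
  intro z hz
  have hc : z ∈ centralizer (o2 (CI Z i j) : Set G) := mem_centralizer_iff.2 fun x hx =>
    (mem_centralizer_iff.1 (o2CI_le_D h i j hx) z hz).symm
  refine mem_zc.2 ⟨char2_CI h hi hj ⟨D_le_C h i j (ZJ_le_D h hz), hc⟩, ?_, fun y hy => mem_centralizer_iff.1 hc y hy⟩
  exact h.fr.Vsq (h.fr.ZJV hz)

theorem le_normalizer_zc_o2 (X : Subgroup G) : X ≤ normalizer (zc (o2 X) : Set G) :=
  (le_normalizer_o2 X).trans (normalizer_le_of_cj (F := zc) LemmaK.Main.zc_cj _)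

/-- **`E_ij ≤ Ω₁Z(O₂(C_ij))`** -/
theorem EI_le [Finite ι] {i j l : ι} (hi : l ≠ i) (hj : l ≠ j) : EI Z ZJ i j ≤ zc (o2 (CI Z i j)) :=
  V_le_of_normal (ZJ_le_zc h hi hj) (le_normalizer_zc_o2 h _)

theorem EI_le_o2 [Finite ι] {i j l : ι} (hi : l ≠ i) (hj : l ≠ j) : EI Z ZJ i j ≤ o2 (CI Z i j) :=
  (EI_le h hi hj).trans (zc_le _)

theorem EI_comm [Finite ι] {i j l : ι} (hi : l ≠ i) (hj : l ≠ j) {x y : G} (hx : x ∈ EI Z ZJ i j)
    (hy : y ∈ EI Z ZJ i j) : x * y = y * x :=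
  (mem_zc.1 (EI_le h hi hj hy)).2.2 x (EI_le_o2 h hi hj hx)

theorem EI_sq [Finite ι] {i j l : ι} (hi : l ≠ i) (hj : l ≠ j) {x : G} (hx : x ∈ EI Z ZJ i j) : x ^ 2 = 1 :=
  (mem_zc.1 (EI_le h hi hj hx)).2.1

omit h [Finite G] in
theorem CI_norm_EI (i j : ι) : CI Z i j ≤ normalizer (EI Z ZJ i j : Set G) := le_normalizer_V _ _

/-- `O₂(C_ij) ≤ O₂(Y_i)` -/
theorem o2CI_le_left [Finite ι] (i j : ι) : o2 (CI Z i j) ≤ o2 (YI Z i) :=
  le_o2 (isPGroup_o2 _) ((o2CI_le_D h i j).trans (D_le_Y h i)) ((YI_le_left i j).trans (le_normalizer_o2 _))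

/-- `O₂(C_ij) ≤ O₂(Y_j)` -/
theorem o2CI_le_right [Finite ι] (i j : ι) : o2 (CI Z i j) ≤ o2 (YI Z j) :=
  le_o2 (isPGroup_o2 _) ((o2CI_le_D h i j).trans (D_le_Y h j)) ((YI_le_right i j).trans (le_normalizer_o2 _))

/-- `O₂(C_ij) ≤ O₂(C_G(ZJ))` -/
theorem o2CI_le_O [Finite ι] (i j : ι) : o2 (CI Z i j) ≤ o2 (centralizer (ZJ : Set G)) :=
  le_o2 (isPGroup_o2 _) (o2CI_le_D h i j) ((D_le_C h i j).trans (le_normalizer_o2 _))

/-- `W i` is generated by two conjugates of `Z i` -/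
theorem W_le_sup (i : ι) : ∃ l ∈ L i, W i ≤ Z i ⊔ cj l (Z i) := by
  obtain ⟨l, hl, h1⟩ := (h.fr.blk i).sup
  have h2 := (h.fr.blk i).toMd.comm_le (le_refl B)
  exact ⟨l, hl, h1.trans (sup_le_sup h2 (cj_mono l h2))⟩

theorem W_le_V {i : ι} {X : Subgroup G} (hX : L i ≤ X) : W i ≤ V (Z i) X := by
  obtain ⟨l, hl, h1⟩ := W_le_sup h i
  exact h1.trans (sup_le (le_V _ _) (cj_le_V (hX hl)))

/-- `W j ≤ N_j = ⟨Z_j^{Y_j}⟩` -/
theorem W_le_N (j : ι) : W j ≤ V (Z j) (YI Z j) := W_le_V h (L_le_Y h j)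

theorem N_le_EI_right (i j : ι) : V (Z j) (YI Z j) ≤ EI Z ZJ i j := V_mono (h.fr.Z_le j) (YI_le_right i j)

theorem N_le_EI_left (i j : ι) : V (Z i) (YI Z i) ≤ EI Z ZJ i j := V_mono (h.fr.Z_le i) (YI_le_left i j)

theorem W_le_EI_right (i j : ι) : W j ≤ EI Z ZJ i j := (W_le_N h j).trans (N_le_EI_right h i j)

theorem W_le_EI_left (i j : ι) : W i ≤ EI Z ZJ i j := (W_le_N h i).trans (N_le_EI_left h i j)

omit h [Finite G] in
theorem ZJ_le_EI (i j : ι) : ZJ ≤ EI Z ZJ i j := le_V _ _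

/-- `⟨W_i^{Y_j}⟩ ≤ E_ij` -/
theorem WW_le_EI (i j : ι) : V (W i) (YI Z j) ≤ EI Z ZJ i j :=
  V_le_of_normal (W_le_EI_left h i j) ((YI_le_right i j).trans (CI_norm_EI i j))

/-- `⟨W_j^{Y_i}⟩ ≤ E_ij` -/
theorem WW_le_EI' (i j : ι) : V (W j) (YI Z i) ≤ EI Z ZJ i j :=
  V_le_of_normal (W_le_EI_right h i j) ((YI_le_left i j).trans (CI_norm_EI i j))

/-- `O₂(C_ij)` centralises `V_P`-components: `V` is generated by the `W l` -/
theorem V_le_iSup [Finite ι] : zl (S : Subgroup G) P ≤ ⨆ l, W l := by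
  intro v hv
  by_cases hι : Nonempty ι
  · obtain ⟨i⟩ := hι
    obtain ⟨w, hw, c, hc, rfl⟩ := h.fr.WC i v hv
    refine mul_mem (le_iSup W i hw) ?_
    exact (iSup_le fun m : {m : ι // m ≠ i} => le_iSup W m.1) (h.C_le i hc)
  · have := h.fr.C0 v hv fun i => (hι ⟨i⟩).elim
    rw [this]
    exact one_mem _

/-- **`N_j ≤ O₂(P)`** (`k ≥ 3`) -/
theorem N_le_Q [Finite ι] (h3 : ∀ i j : ι, ∃ l, l ≠ i ∧ l ≠ j) (j : ι) : V (Z j) (YI Z j) ≤ o2 P := by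
  have hc : ∀ l, V (Z j) (YI Z j) ≤ centralizer (W l : Set G) := by
    intro l
    obtain ⟨m, hm1, hm2⟩ := h3 l j
    exact ((N_le_EI_right h l j).trans (EI_le_o2 h hm1 hm2)).trans (o2CI_cent_left h l j)
  intro x hx
  obtain ⟨m, hm1, hm2⟩ := h3 j j
  have hxB : x ∈ B := (o2CI_le_B h j j) (EI_le_o2 h hm1 hm2 (N_le_EI_right h j j hx))
  refine (h.fr.mem_Q x hxB).2 fun v hv => ?_
  have h1 : (⨆ l, W l) ≤ centralizer ({x} : Set G) := iSup_le fun l w hw => mem_centralizer_iff.2 fun y hy => by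
    rw [Set.mem_singleton_iff.1 hy]
    exact (mem_centralizer_iff.1 (hc l hx) w hw).symm
  exact mem_centralizer_iff.1 (h1 (V_le_iSup h hv)) x (Set.mem_singleton x)

/-- `O₂(Y_j)` centralises `W j` -/
theorem o2Y_cent (j : ι) : o2 (YI Z j) ≤ centralizer (W j : Set G) := by
  have : Fact (Nat.Prime 2) := ⟨Nat.prime_two⟩
  exact (h.block j).le_centralizer (isPGroup_o2 _) ((L_le_Y h j).trans (le_normalizer_o2 _))

/-- `O₂(Y_j) ≤ C_G(ZJ)` -/
theorem o2Y_le_D [Finite ι] (j : ι) : o2 (YI Z j) ≤ centralizer (ZJ : Set G) := fun x hx =>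
  mem_D h (i := j) (j := j) (YI_le_right j j (o2_le _ hx))
    (fun z hz => mem_centralizer_iff.1 (o2Y_cent h j hx) z ((h.fr.blk j).ZV hz))
    (fun z hz => mem_centralizer_iff.1 (o2Y_cent h j hx) z ((h.fr.blk j).ZV hz))

/-- **`O₂(Y_j) ≤ B`** -/
theorem o2Y_le_B [Finite ι] (j : ι) : o2 (YI Z j) ≤ B :=
  le_B_of h (isPGroup_o2 _) (o2Y_le_D h j) ((B_le_Y h j).trans (le_normalizer_o2 _))

/-- `O₂(Y_j) ≤ O₂(C_G(ZJ))` -/
theorem o2Y_le_O [Finite ι] (j : ι) : o2 (YI Z j) ≤ o2 (centralizer (ZJ : Set G)) :=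
  le_o2 (isPGroup_o2 _) (o2Y_le_D h j) ((D_le_Y h j).trans (le_normalizer_o2 _))

/-- **`[⟨W_i^{Y_j}⟩, O₂(Y_j)] ≤ Z i`** for `i ≠ j` -/
theorem comm_WW [Finite ι] {i j : ι} (hij : i ≠ j) {x w : G} (hx : x ∈ o2 (YI Z j)) (hw : w ∈ V (W i) (YI Z j)) :
    x * w * x⁻¹ * w⁻¹ ∈ Z i := by
  have hWY : V (W i) (YI Z j) ≤ YI Z j := V_le_of_normal
    ((fun w hw => mem_YI.2 fun l _ z hz => h.fr.Vc (h.fr.ZV l hz) (h.fr.WV i hw)) : W i ≤ YI Z j) le_normalizer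
  have key : ∀ w ∈ V (W i) (YI Z j), ∀ x ∈ o2 (YI Z j), x * w * x⁻¹ * w⁻¹ ∈ Z i := by
    intro w hw
    have hle : V (W i) (YI Z j) ≤ V (W i) (YI Z j) := le_rfl
    unfold V at hw
    induction hw using Subgroup.iSup_induction' with
    | hp p w hw =>
      intro x hx
      have hw' : w ∈ cj (p : G) (W i) := hw
      rw [mem_cj] at hw'
      have hx' : (p : G)⁻¹ * x * p ∈ o2 (YI Z j) :=
        (mem_normalizer_iff''.1 (le_normalizer_o2 _ p.2) x).1 hx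
      have h1 := (h.fr.blk i).com _ (o2Y_le_B h j hx') _ hw'
      have h2 := mem_YI.1 p.2 i hij _ h1
      have e : x * w * x⁻¹ * w⁻¹ = (p : G) * (((p : G)⁻¹ * x * p) * ((p : G)⁻¹ * w * p) * ((p : G)⁻¹ * x * p)⁻¹ *
          ((p : G)⁻¹ * w * p)⁻¹) * (p : G)⁻¹ := by group
      rw [e, ← h2, mul_assoc, mul_inv_cancel, mul_one]
      exact h1
    | h1 =>
      intro x hx
      simp
    | hmul w w' hw _ h1 h2 =>
      intro x hx
      have h3 := h1 x hx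
      have h4 := h2 x hx
      have h5 : w ∈ YI Z j := hWY hw
      have h6 := mem_YI.1 h5 i hij _ h4
      have e : x * (w * w') * x⁻¹ * (w * w')⁻¹ = (x * w * x⁻¹ * w⁻¹) * (w * (x * w' * x⁻¹ * w'⁻¹) * w⁻¹) := by group
      rw [e, ← h6, mul_assoc (x * w' * x⁻¹ * w'⁻¹), mul_inv_cancel, mul_one]
      exact mul_mem h3 h4
  exact key w hw x hx

end frame

end Cfsg.Agent.Omega.EK3.Q.Loc
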