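import Cfsg.Agent.Mrg.Omega.EK3.Q.Def
import Cfsg.Agent.Mrg.Omega.TC.UniLev
import Cfsg.Agent.Mrg.Omega.NO3S.EMany.Four
import Cfsg.Agent.Mrg.Omega.EK3.Rank
import Cfsg.Agent.Mrg.Omega.ML.MinIrr
import Cfsg.Agent.Mrg.Omega.EK3.QG.Inst

section


/-!
# (E), `k ≥ 3`, `q ≥ 4` (bb #22703, #23165): facts over the frame `FrQ`

* `TY_com` : `T_j` acts trivially on `W l / Z l`, `l ≠ j`;
* `char2`, `char2_C`; `W_le_NQ`, `NQ_norm`, `NQ_eq`, `NQ_le_zc`, `NQ_comm`, `NQ_sq`;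
* `cent_le_D`, `Q_le_D`, `Q_eq`, `O_le`;
* `frat`, `norm_ZJ`, `normZ`.

Several proofs follow helper88's `EK3/InstQ.lean`.
-/

set_option autoImplicit false
set_option linter.unusedSectionVars false
set_option linter.unusedVariables false

namespace Cfsg.Agent.Omega.EK3.Q

open Subgroup Cfsg Cfsg.Agent.ZN.ChoiceBase
open Cfsg.Agent.ZN (jj zj bau zc zl o2)
open Cfsg.Agent.ZN.ChoiceSit (Syl exists_syl syl_conj isPGroup_o2 le_o2 le_normalizer_o2 o2_le_syl syl_not_dvd)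
open Cfsg.Agent.Omega
open Cfsg.Agent.Omega.OM Cfsg.Agent.Omega.OM.Uni
open Cfsg.Agent.Omega.OM.UniPlus (NB)
open Cfsg.Agent.Omega.NO3S.EThree.Frame
open Cfsg.Agent.Omega.NO3S.EMany
open Cfsg.Agent.Omega.Node.MultiOf
open Cfsg.Agent.MinSimple.MinParabolic (IsMinPar)
open scoped Pointwise

universe u

variable {G : Type u} [Group G] {k : ℕ}

namespace FrQ

variable [Finite G] {S : Sylow 2 G} {P K B ZJ : Subgroup G} {L W Z C : Fin k → Subgroup G} {q : ℕ}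
  (h : FrQ S P K B ZJ L W Z C q)
include h

/-! ### `T_j` on `W l / Z l` -/

/-- **`T_j` acts trivially on `W l / Z l`, `l ≠ j`.** -/
theorem TY_com {j l : Fin k} (hl : l ≠ j) {t w : G} (ht : t ∈ TY S Z j) (hw : w ∈ W l) :
    t * w * t⁻¹ * w⁻¹ ∈ Z l := by
  have : Fact (Nat.Prime 2) := ⟨Nat.prime_two⟩
  have hZW : Z l ≤ W l := (h.bg.fr.blk l).ZV
  have hc : ∀ {x y : G}, x ∈ W l → y ∈ W l → x * y = y * x := fun hx hy =>
    h.bg.fr.Vc (h.bg.fr.WV l hx) (h.bg.fr.WV l hy)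
  have htZ : ∀ {t z : G}, t ∈ TY S Z j → z ∈ Z l → t * z = z * t := fun ht hz => mem_YQ.1 ht.2 l hl _ hz
  have hWT : W l ≤ TY S Z j := (h.W_le_B l).trans (h.B_le_T j)
  -- `v ∈ W l - Z l` with `[v, T_j] ≤ Z l`
  obtain ⟨v, hv, hvZ, hvT⟩ : ∃ v ∈ W l, v ∉ Z l ∧ ∀ t ∈ TY S Z j, t * v * t⁻¹ * v⁻¹ ∈ Z l := by
    set T := TY S Z j with hT
    have hZn : ((Z l).subgroupOf T).Normal := normal_subgroupOf_of_le_normalizer (h.T_norm_Z j l)
    have hWn : ((W l).subgroupOf T).Normal := normal_subgroupOf_of_le_normalizer (h.T_norm_W j l)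
    let φ := QuotientGroup.mk' ((Z l).subgroupOf T)
    have hnil : Group.IsNilpotent (T ⧸ (Z l).subgroupOf T) := ((h.T_two j).to_quotient _).isNilpotent
    have hn2 : (((W l).subgroupOf T).map φ).Normal := hWn.map φ (QuotientGroup.mk'_surjective _)
    have hne : ((W l).subgroupOf T).map φ ≠ ⊥ := by
      intro e
      have h1 : (W l).subgroupOf T ≤ (Z l).subgroupOf T := by
        have h2 := (Subgroup.map_eq_bot_iff _).1 e
        rwa [QuotientGroup.ker_mk'] at h2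
      have h3 : W l ≤ Z l := fun x hx => mem_subgroupOf.1 (h1 (mem_subgroupOf.2 (show ((⟨x, hWT hx⟩ : T) : G) ∈ W l from hx)))
      have h4 := Subgroup.card_le_of_le h3
      have h5 := (h.bg.fr.blk l).card
      have h6 := h.bg.fr.cardZ l
      have h7 := h.four
      rw [h5, h6] at h4
      nlinarith
    have h1 := Lib.NormalAbelian.normal_inf_center_ne_bot (((W l).subgroupOf T).map φ) hne
    obtain ⟨⟨x, hxW, hxc⟩, hx1⟩ := Subgroup.ne_bot_iff_exists_ne_one.1 h1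
    obtain ⟨⟨v, hvT⟩, hvW, rfl⟩ := hxW
    have hvW : v ∈ W l := hvW
    refine ⟨v, hvW, fun hvZ => hx1 (Subtype.ext ?_), fun t ht => ?_⟩
    · exact (QuotientGroup.eq_one_iff _).2 hvZ
    · have h2 := mem_center_iff.1 hxc (φ ⟨t, ht⟩)
      have h3 : φ (⟨t, ht⟩ * ⟨v, hvT⟩ * (⟨t, ht⟩ : T)⁻¹ * (⟨v, hvT⟩ : T)⁻¹) = 1 := by
        rw [map_mul, map_mul, map_mul, map_inv, map_inv, h2]
        group
      have h4 := (QuotientGroup.eq_one_iff (N := (Z l).subgroupOf T) _).1 h3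
      exact mem_subgroupOf.1 h4
  by_cases hwZ : w ∈ Z l
  · rw [htZ ht hwZ, mul_inv_cancel_right, mul_inv_cancel]
    exact one_mem _
  obtain ⟨x, hxP, hxC, hxZ, hx, hwv, -⟩ := (h.bg.scal h.two_lt l).ex v hv hvZ w hw hwZ
  set y := x * v * x⁻¹ with hy
  have hyW : y ∈ W l := by
    have h1 := h.bg.fix hxP hxC l
    rw [← h1]
    exact ⟨v, hv, rfl⟩
  have htW : t * y * t⁻¹ ∈ W l := (mem_normalizer_iff.1 (h.T_norm_W j l ht) y).1 hyW
  have hbcom : ∀ b ∈ B, ∀ u ∈ W l, b * u * b⁻¹ * u⁻¹ ∈ Z l := fun b hb u hu => (h.bg.fr.blk l).com b hb u hu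
  have hbZ : ∀ b ∈ B, ∀ z ∈ Z l, b * z = z * b := fun b hb z hz => (h.bg.fr.blk l).cZ b hb z hz
  -- `[b, t y t⁻¹] = [b, y]`
  have key : ∀ b ∈ B, b * (t * y * t⁻¹) * b⁻¹ * (t * y * t⁻¹)⁻¹ = b * y * b⁻¹ * y⁻¹ := by
    intro b hb
    have hb' : t⁻¹ * b * t ∈ B := (mem_normalizer_iff''.1 (h.T_norm_B j ht) b).1 hb
    have hb'' : t⁻¹ * b * t ∈ B := hb'
    have e1 : b * (t * y * t⁻¹) * b⁻¹ * (t * y * t⁻¹)⁻¹ =
        t * ((t⁻¹ * b * t) * y * (t⁻¹ * b * t)⁻¹ * y⁻¹) * t⁻¹ := by group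
    rw [e1, htZ ht (hbcom _ hb' y hyW), mul_inv_cancel_right, hy, hx _ hb' v hv, hx _ hb v hv]
    congr 2
    -- `[t⁻¹ b t, v] = [b, v]`
    obtain ⟨c, hc1, hc2⟩ : ∃ c ∈ Z l, t * v * t⁻¹ = c * v := ⟨_, hvT t ht, by group⟩
    have e2 : (t⁻¹ * b * t) * v * (t⁻¹ * b * t)⁻¹ * v⁻¹ =
        t⁻¹ * (b * (t * v * t⁻¹) * b⁻¹ * (t * v * t⁻¹)⁻¹) * t := by group
    have e3 : b * (c * v) * b⁻¹ * (c * v)⁻¹ = b * v * b⁻¹ * v⁻¹ := by
      have h1 : b * (c * v) * b⁻¹ * (c * v)⁻¹ = (b * c) * v * b⁻¹ * v⁻¹ * c⁻¹ := by group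
      have h2 : c * (b * v * b⁻¹ * v⁻¹) = (b * v * b⁻¹ * v⁻¹) * c := hc (hZW hc1) (hZW (hbcom b hb v hv))
      rw [h1, hbZ b hb c hc1]
      calc c * b * v * b⁻¹ * v⁻¹ * c⁻¹ = c * (b * v * b⁻¹ * v⁻¹) * c⁻¹ := by group
        _ = b * v * b⁻¹ * v⁻¹ := by rw [h2]; group
    rw [e2, hc2, e3]
    have h4 := htZ ht (hbcom b hb v hv)
    rw [mul_assoc, ← h4]
    group
  -- `d = [t, y]` commutes with `B`
  have hd : t * y * t⁻¹ * y⁻¹ ∈ Z l := by
    refine (h.bg.fr.blk l).toMd.mem_Z_iff.2 ⟨mul_mem htW (inv_mem hyW), fun b hb => ?_⟩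
    have h1 := key b hb
    have hby : b * y * b⁻¹ ∈ W l := (h.bg.fr.blk l).BV hb hyW
    have h2 : b * (t * y * t⁻¹) * b⁻¹ = (b * y * b⁻¹ * y⁻¹) * (t * y * t⁻¹) := by rw [← h1]; group
    have h3 : b * (t * y * t⁻¹ * y⁻¹) * b⁻¹ = t * y * t⁻¹ * y⁻¹ := by
      have e : b * (t * y * t⁻¹ * y⁻¹) * b⁻¹ = b * (t * y * t⁻¹) * b⁻¹ * (b * y * b⁻¹)⁻¹ := by group
      have h4 : (b * y * b⁻¹ * y⁻¹) * (t * y * t⁻¹) = (t * y * t⁻¹) * (b * y * b⁻¹ * y⁻¹) :=
        hc (mul_mem hby (inv_mem hyW)) htW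
      have h5 : y⁻¹ * (b * y * b⁻¹)⁻¹ = (b * y * b⁻¹)⁻¹ * y⁻¹ := hc (inv_mem hyW) (inv_mem hby)
      rw [e, h2, h4]
      calc t * y * t⁻¹ * (b * y * b⁻¹ * y⁻¹) * (b * y * b⁻¹)⁻¹
          = t * y * t⁻¹ * (b * y * b⁻¹) * (y⁻¹ * (b * y * b⁻¹)⁻¹) := by group
        _ = t * y * t⁻¹ * y⁻¹ := by rw [h5]; group
    exact mul_inv_eq_iff_eq_mul.1 h3
  -- `w = y z`
  have hz : (w⁻¹ * y)⁻¹ ∈ Z l := inv_mem hwv
  set z := (w⁻¹ * y)⁻¹ with hzd
  have hwy : w = y * z := by rw [hzd]; group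
  have e5 : t * w * t⁻¹ * w⁻¹ = t * y * t⁻¹ * y⁻¹ := by
    rw [hwy]
    have h1 : t * z * t⁻¹ = z := by rw [htZ ht hz]; group
    calc t * (y * z) * t⁻¹ * (y * z)⁻¹ = t * y * t⁻¹ * (t * z * t⁻¹) * z⁻¹ * y⁻¹ := by group
      _ = t * y * t⁻¹ * y⁻¹ := by rw [h1]; group
  rw [e5]
  exact hd

/-! ### characteristic 2 -/

theorem char2_of {ι : Type} (A : ι → Subgroup G) (hA : ∀ i, A i ≤ ZJ) {i : ι} (hi : A i ≠ ⊥) :
    centralizer ((⨆ i, A i : Subgroup G) : Set G) ⊓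
        centralizer (o2 (centralizer ((⨆ i, A i : Subgroup G) : Set G)) : Set G) ≤
      o2 (centralizer ((⨆ i, A i : Subgroup G) : Set G)) := by
  refine Swap.char2_cent h.bg.hyp.ctx.char2 ?_ ?_
  · exact h.bg.bau_two.to_le ((iSup_le hA).trans (h.bg.fr.ZJV.trans h.bg.fr.VB))
  · exact fun e => hi (le_bot_iff.1 (e ▸ le_iSup A i))

/-- `Y_j` has characteristic 2 -/
theorem char2 (j : Fin k) : YQ Z j ⊓ centralizer (o2 (YQ Z j) : Set G) ≤ o2 (YQ Z j) := by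
  obtain ⟨i, hi⟩ := h.exists_ne j
  rw [YQ_eq_cent]
  exact h.char2_of (fun l : {l : Fin k // l ≠ j} => Z l) (fun l => h.bg.fr.Z_le l) (i := ⟨i, hi⟩) (h.bg.Z_ne i)

/-- there is a third index -/
theorem exists_third (i j : Fin k) : ∃ l, l ≠ i ∧ l ≠ j := by
  have h3 : 3 ≤ Fintype.card (Fin k) := by rw [Fintype.card_fin]; exact h.three
  by_contra hcon
  push Not at hcon
  have h1 : (Finset.univ : Finset (Fin k)) ⊆ {i, j} := fun l _ => by
    rw [Finset.mem_insert, Finset.mem_singleton]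
    by_cases hl : l = i
    · exact Or.inl hl
    · exact Or.inr (hcon l hl)
  have h2 := (Finset.card_le_card h1).trans Finset.card_le_two
  rw [Finset.card_univ] at h2
  omega

/-- `C_ij` has characteristic 2 -/
theorem char2_C (i j : Fin k) : CQ Z i j ⊓ centralizer (o2 (CQ Z i j) : Set G) ≤ o2 (CQ Z i j) := by
  obtain ⟨l, hl⟩ := h.exists_third i j
  rw [CQ_eq_cent]
  exact h.char2_of (fun l : {l : Fin k // l ≠ i ∧ l ≠ j} => Z l) (fun l => h.bg.fr.Z_le l) (i := ⟨l, hl⟩)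
    (h.bg.Z_ne l)

/-- 2-subgroups of `Y_j` over `T_j`: `T_j` is Sylow in every `R` between -/
theorem syl_of {j : Fin k} {R : Subgroup G} (hTR : TY S Z j ≤ R) (hR : R ≤ YQ Z j) : Syl (TY S Z j) R :=
  ⟨hTR, h.T_two j, fun Q hQ h2 hle => (h.syl j).2.2 Q (hQ.trans hR) h2 hle⟩

theorem m_zc {j : Fin k} {m : G} (hm : m ∈ Z j) (hc : TY S Z j ≤ centralizer ({m} : Set G)) : m ∈ zc (TY S Z j) :=
  mem_zc.2 ⟨h.B_le_T j (h.Z_le_B j hm), h.bg.fr.Vsq (h.bg.fr.ZV j hm),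
    fun _ hx => mem_centralizer_singleton_iff.1 (hc hx)⟩

/-! ### `N_j` -/

theorem Z_le_NQ (j : Fin k) : Z j ≤ NQ Z j := le_cls _ _

theorem NQ_norm (j : Fin k) : YQ Z j ≤ normalizer (NQ Z j : Set G) := cls_self_norm _ _

theorem NQ_min {j : Fin k} {M : Subgroup G} (hZ : Z j ≤ M) (hY : YQ Z j ≤ normalizer (M : Set G)) : NQ Z j ≤ M :=
  cls_min hZ hY

theorem W_le_NQ (j : Fin k) : W j ≤ NQ Z j := by
  obtain ⟨k, hk, hne⟩ := AltQ.exists_ne (FourQ.nb h.bg j)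
  rw [← AltQ.sup_eq (FourQ.nb h.bg j) hk hne]
  exact sup_le (h.Z_le_NQ j) (cj_le_cls (h.L_le j hk))

/-- `L j` is transitive on `W j - 1` -/
theorem trL {j : Fin k} {v z : G} (hv : v ∈ W j) (hv1 : v ≠ 1) (hz : z ∈ Z j) (hz1 : z ≠ 1) :
    ∃ l ∈ L j, l * z * l⁻¹ = v := AltQ.trL (FourQ.nb h.bg j) (FourQ.rt h.bg j) hv hv1 hz hz1

/-- **`N_j = ⟨m^{Y_j}⟩`** for `1 ≠ m ∈ Z_j` -/
theorem NQ_eq {j : Fin k} {m : G} (hm : m ∈ Z j) (hm1 : m ≠ 1) : NQ Z j = NoFF.Basic.V (zpowers m) (YQ Z j) := by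
  have hn : YQ Z j ≤ normalizer (NoFF.Basic.V (zpowers m) (YQ Z j) : Set G) := cls_self_norm (zpowers m) (YQ Z j)
  have hm' : m ∈ NoFF.Basic.V (zpowers m) (YQ Z j) := le_cls (zpowers m) (YQ Z j) (mem_zpowers m)
  apply le_antisymm
  · refine NQ_min h (fun z hz => ?_) hn
    by_cases hz1 : z = 1
    · rw [hz1]; exact one_mem _
    obtain ⟨l, hl, rfl⟩ := h.trL ((h.bg.fr.blk j).ZV hz) hz1 hm hm1
    exact (mem_normalizer_iff.1 (hn (h.L_le j hl)) m).1 hm'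
  · refine cls_min ?_ (h.NQ_norm j)
    rw [zpowers_le]
    exact h.Z_le_NQ j hm

theorem NQ_le_zc (j : Fin k) : NQ Z j ≤ zc (o2 (YQ Z j)) := by
  obtain ⟨m, hm, hm1, hmT⟩ := h.exists_m j
  have h1 := MinSimple.VModule.zl_le_zc (h.syl j).1 (h.T_two j) (syl_not_dvd (h.syl j)) (h.char2 j)
  have h2 : m ∈ zl (TY S Z j) (YQ Z j) := MinSimple.VModule.zc_le_zl _ _ (h.m_zc hm hmT)
  refine NQ_min h ?_ ((le_normalizer_o2 _).trans (MinSimple.VModule.normalizer_le_normalizer_zc _))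
  refine le_trans (fun z hz => ?_) h1
  by_cases hz1 : z = 1
  · rw [hz1]; exact one_mem _
  obtain ⟨l, hl, rfl⟩ := h.trL ((h.bg.fr.blk j).ZV hz) hz1 hm hm1
  exact (mem_normalizer_iff.1 (MinSimple.VModule.le_normalizer_zl (TY S Z j) (YQ Z j) (h.L_le j hl)) m).1 h2

theorem NQ_sq {j : Fin k} {x : G} (hx : x ∈ NQ Z j) : x ^ 2 = 1 := (mem_zc.1 (h.NQ_le_zc j hx)).2.1

theorem NQ_le_Q (j : Fin k) : NQ Z j ≤ o2 (YQ Z j) := fun _ hx => (mem_zc.1 (h.NQ_le_zc j hx)).1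

theorem NQ_comm (j : Fin k) : NQ Z j ≤ centralizer (NQ Z j : Set G) := fun x hx =>
  mem_centralizer_iff.2 fun y hy => (mem_zc.1 (h.NQ_le_zc j hx)).2.2 y (h.NQ_le_Q j hy)

theorem NQ_le_Y (j : Fin k) : NQ Z j ≤ YQ Z j := (h.NQ_le_Q j).trans (MinSimple.VModule.o2_le _)

theorem Q_cent (j : Fin k) : o2 (YQ Z j) ≤ centralizer (NQ Z j : Set G) := fun x hx =>
  mem_centralizer_iff.2 fun y hy => ((mem_zc.1 (h.NQ_le_zc j hy)).2.2 x hx).symm

theorem cent_le_D (j : Fin k) : YQ Z j ⊓ centralizer (NQ Z j : Set G) ≤ centralizer (ZJ : Set G) := by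
  rw [← h.stab j]
  exact inf_le_inf_left _ (centralizer_le (h.Z_le_NQ j))

theorem Q_le_D (j : Fin k) : o2 (YQ Z j) ≤ centralizer (ZJ : Set G) :=
  (le_inf (MinSimple.VModule.o2_le _) (h.Q_cent j)).trans (h.cent_le_D j)

theorem Q_le_O (j : Fin k) : o2 (YQ Z j) ≤ o2 (centralizer (ZJ : Set G)) :=
  le_o2 (isPGroup_o2 _) (h.Q_le_D j) ((h.D_le j).trans (le_normalizer_o2 _))

theorem NQ_le_O (j : Fin k) : NQ Z j ≤ o2 (centralizer (ZJ : Set G)) := (h.NQ_le_Q j).trans (h.Q_le_O j)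

theorem NQ_le_B (j : Fin k) : NQ Z j ≤ B := (h.NQ_le_O j).trans h.O_le_B

theorem O_le_Y (j : Fin k) : o2 (centralizer (ZJ : Set G)) ≤ YQ Z j := h.O_le_B.trans (h.B_le_Y j)

/-- **`O₂(Y_j) = O₂(D) ∩ C(N_j)`** -/
theorem Q_eq (j : Fin k) : o2 (YQ Z j) = o2 (centralizer (ZJ : Set G)) ⊓ centralizer (NQ Z j : Set G) := by
  apply le_antisymm
  · exact le_inf (h.Q_le_O j) (h.Q_cent j)
  · set C' : Subgroup G := YQ Z j ⊓ centralizer (NQ Z j : Set G) with hC'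
    have hCD : C' ≤ centralizer (ZJ : Set G) := h.cent_le_D j
    have hCn : YQ Z j ≤ normalizer (C' : Set G) := by
      intro y hy
      rw [mem_normalizer_iff_cj, hC', cj_inf, cj_eq_of_mem_normalizer (Subgroup.le_normalizer hy), cj_centralizer,
        cj_eq_of_mem_normalizer (h.NQ_norm j hy)]
    have h1 : o2 (centralizer (ZJ : Set G)) ⊓ centralizer (NQ Z j : Set G) ≤ o2 C' := by
      refine le_o2 ((isPGroup_o2 _).to_le inf_le_left) (inf_le_inf_right _ ((MinSimple.VModule.o2_le _).trans (h.D_le j))) ?_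
      intro c hc
      rw [mem_normalizer_iff_cj, cj_inf, cj_eq_of_mem_normalizer (le_normalizer_o2 _ (hCD hc)), cj_centralizer,
        cj_eq_of_mem_normalizer (h.NQ_norm j hc.1)]
    refine h1.trans (le_o2 (isPGroup_o2 _) ((MinSimple.VModule.o2_le _).trans inf_le_left) ?_)
    intro y hy
    rw [mem_normalizer_iff_cj, ← pCore_cj, cj_eq_of_mem_normalizer (hCn hy)]

/-! ### `N_{Y_j}(Z_J)` -/

/-- the Frattini argument -/
theorem frat {j : Fin k} {x : G} (hx : x ∈ YQ Z j) (hJ : x ∈ normalizer (ZJ : Set G)) :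
    ∃ d ∈ centralizer (ZJ : Set G), ∃ n ∈ YQ Z j, n ∈ normalizer (B : Set G) ∧ x = d * n := by
  obtain ⟨d, hd, hdy⟩ := FourQ.exists_frattini h.bg hJ
  exact ⟨d⁻¹, inv_mem hd, d * x, mul_mem (h.D_le j hd) hx, hdy, by group⟩

/-- an element of `Y_j` normalising `Z_J` normalises all `Z_l` -/
theorem norm_ZJ {j : Fin k} {x : G} (hx : x ∈ YQ Z j) (hJ : x ∈ normalizer (ZJ : Set G)) (l : Fin k) :
    x ∈ normalizer (Z l : Set G) := by
  obtain ⟨d, hd, n, hn, hnB, rfl⟩ := h.frat hx hJ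
  refine mul_mem ?_ (mem_normalizer_iff_cj.2 (h.fixB hnB hn l).2)
  exact centralizer_le_normalizer _ (centralizer_le (h.bg.fr.Z_le l) hd)

/-- an element of `Y_j` normalising `Z_j` normalises `Z_J` -/
theorem norm_ZJ' {j : Fin k} {x : G} (hx : x ∈ YQ Z j) (hj : x ∈ normalizer (Z j : Set G)) :
    x ∈ normalizer (ZJ : Set G) := by
  rw [mem_normalizer_iff_cj, h.ZJ_eq]
  have h2 : cj x (⨆ l, Z l) = ⨆ l, cj x (Z l) := Subgroup.map_iSup _ _
  rw [h2]
  congr 1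
  funext l
  by_cases hl : l = j
  · rw [hl]; exact mem_normalizer_iff_cj.1 hj
  · exact mem_normalizer_iff_cj.1 (centralizer_le_normalizer _ (YQ_cent hl hx))

/-- **`N_{Y_j}(Z_j)` normalises everything** -/
theorem normZ {j : Fin k} {x : G} (hx : x ∈ YQ Z j) (hj : x ∈ normalizer (Z j : Set G)) :
    (∀ l, x ∈ normalizer (Z l : Set G)) ∧ (∀ i, x ∈ normalizer (YQ Z i : Set G)) ∧
      (∀ i, x ∈ normalizer (NQ Z i : Set G)) ∧ (∀ i i', x ∈ normalizer (CQ Z i i' : Set G)) ∧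
      ∃ d ∈ centralizer (ZJ : Set G), ∃ n ∈ YQ Z j, n ∈ normalizer (B : Set G) ∧ x = d * n := by
  have h1 : ∀ l, x ∈ normalizer (Z l : Set G) := h.norm_ZJ hx (h.norm_ZJ' hx hj)
  have h2 : ∀ l, cj x (Z l) = Z ((Equiv.refl (Fin k)) l) := fun l => mem_normalizer_iff_cj.1 (h1 l)
  refine ⟨h1, fun i => mem_normalizer_iff_cj.2 (cj_YQ h2 i), fun i => mem_normalizer_iff_cj.2 (cj_NQ h2 i),
    fun i i' => ?_, h.frat hx (h.norm_ZJ' hx hj)⟩
  have h3 : ∀ l, x ∈ normalizer (centralizer (Z l : Set G) : Set G) := fun l => centralizer_norm _ (h1 l)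
  rw [mem_normalizer_iff]
  intro g
  constructor
  · intro hg
    refine mem_iInf.2 fun l => ?_
    exact (mem_normalizer_iff.1 (h3 l) g).1 (mem_iInf.1 hg l)
  · intro hg
    refine mem_iInf.2 fun l => ?_
    exact (mem_normalizer_iff.1 (h3 l) g).2 (mem_iInf.1 hg l)

/-- (TI) in `Y_j` -/
theorem cent_m {j : Fin k} {m : G} (hm : m ∈ Z j) (hm1 : m ≠ 1) :
    YQ Z j ⊓ centralizer ({m} : Set G) ≤ normalizer (Z j : Set G) := by
  obtain ⟨i, hi⟩ := h.exists_ne j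
  rintro x ⟨hx, hc⟩
  exact h.ti j i hi.symm m hm hm1 ⟨hc, YQ_le_left Z j i hx⟩

/-- **`O₂(D) ≤ O₂(C_{Y_j}(m))`** for `1 ≠ m ∈ Z_j` -/
theorem O_le {j : Fin k} {m : G} (hm : m ∈ Z j) (hm1 : m ≠ 1) :
    o2 (centralizer (ZJ : Set G)) ≤ o2 (YQ Z j ⊓ centralizer ({m} : Set G)) := by
  refine le_o2 (isPGroup_o2 _) (le_inf (h.O_le_Y j) ?_) ?_
  · exact (MinSimple.VModule.o2_le _).trans (FourQ.cent_le h.bg hm)
  · rintro x ⟨hx, hc⟩
    have h1 : x ∈ normalizer (ZJ : Set G) := h.norm_ZJ' hx (h.cent_m hm hm1 ⟨hx, hc⟩)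
    have h2 : x ∈ normalizer (centralizer (ZJ : Set G) : Set G) := centralizer_norm _ h1
    rw [mem_normalizer_iff_cj, ← pCore_cj, mem_normalizer_iff_cj.1 h2]

end FrQ

end Cfsg.Agent.Omega.EK3.Q

end

section


/-!
# (E), `k ≥ 3`, `q ≥ 4` (bb #22703, #23165, #23990): `(NO)` over the frame `FrQ`

`FrQ.noOn` : `|A : C_A(N_j)| ≤ |N_j : C_{N_j}(A)|` for the elementary abelian subgroups `A` of `O₂(D)`.
-/

set_option autoImplicit false
set_option linter.unusedSectionVars false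

namespace Cfsg.Agent.Omega.EK3.Q

open Subgroup Cfsg Cfsg.Agent.ZN.ChoiceBase
open Cfsg.Agent.ZN (jj zj bau zc zl o2)
open Cfsg.Agent.ZN.ChoiceSit (Syl exists_syl syl_conj isPGroup_o2 le_o2 le_normalizer_o2 o2_le_syl syl_not_dvd)
open Cfsg.Agent.Omega
open Cfsg.Agent.Omega.OM
open Cfsg.Agent.Omega.NO3S.EThree.Frame
open Cfsg.Agent.Omega.NO3S.EMany
open Cfsg.Agent.Omega.ML.Final (MLK)

universe u

variable {G : Type u} [Group G] {k : ℕ}

namespace FrQ

variable [Finite G] {S : Sylow 2 G} {P K B ZJ : Subgroup G} {L W Z C : Fin k → Subgroup G} {q : ℕ}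
  (h : FrQ S P K B ZJ L W Z C q)
include h

/-- **(NO)** at `m`, over `T_j` -/
theorem no_m (hML : MLK.{u, u}) {j : Fin k} {m : G} (hm : m ∈ Z j)
    (hm1 : m ≠ 1) (hmT : TY S Z j ≤ centralizer ({m} : Set G)) (hK : IsKGroup (YQ Z j)) {A : Subgroup G}
    (hA : A ≤ o2 (YQ Z j ⊓ centralizer ({m} : Set G))) (hA2 : ∀ a ∈ A, a ^ 2 = 1) :
    (centralizer (NQ Z j : Set G)).relIndex A ≤ (centralizer (A : Set G)).relIndex (NQ Z j) := by
  have hmain : (A ⊓ centralizer (NQ Z j : Set G)).relIndex A ≤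
      (NQ Z j ⊓ centralizer (A : Set G)).relIndex (NQ Z j) := by
    refine hML.grp (C := YQ Z j) (W := NQ Z j) (Y := ⊥) (T := TY S Z j)
      (Q := o2 (YQ Z j ⊓ centralizer ({m} : Set G))) (A := A) (w := m) hK
      { nW := h.NQ_norm j
        nY := fun x _ => by
          rw [mem_normalizer_iff]
          intro y
          rw [mem_bot, mem_bot, conj_eq_one_iff]
        YW := bot_le
        WY := fun x _ => by
          rw [mem_normalizer_iff]
          intro y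
          rw [mem_bot, mem_bot, conj_eq_one_iff]
        sq := fun x hx => by
          rw [mem_bot, ← pow_two]
          exact h.NQ_sq hx
        mem := h.Z_le_NQ j hm
        gen := fun U hmU _ hU => by
          refine h.NQ_min (fun z hz => ?_) hU
          by_cases hz1 : z = 1
          · rw [hz1]; exact one_mem _
          obtain ⟨l, hl, e⟩ := h.trL ((h.mul.bg.fr.blk j).ZV hz) hz1 hm hm1
          rw [← e]
          exact (mem_normalizer_iff.1 (hU (h.L_le j hl)) m).1 hmU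
        TC := (h.syl j).1
        two := (h.syl j).2.1
        odd := syl_not_dvd (h.syl j)
        fixT := fun t ht => by
          rw [mem_bot, mem_centralizer_singleton_iff.1 (hmT ht)]; group
        QC := (MinSimple.VModule.o2_le _).trans inf_le_left
        Q2 := isPGroup_o2 _
        fixQ := fun x hx => by
          rw [mem_bot, mem_centralizer_singleton_iff.1 (MinSimple.VModule.o2_le _ hx).2]; group
        nrmQ := fun g hg hgm x hx => by
          rw [mem_bot, mul_inv_eq_one] at hgm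
          have h1 : g ∈ YQ Z j ⊓ centralizer ({m} : Set G) := by
            refine mem_inf.2 ⟨hg, ?_⟩
            rw [mem_centralizer_singleton_iff]
            exact mul_inv_eq_iff_eq_mul.1 hgm
          exact (mem_normalizer_iff.1 (le_normalizer_o2 _ h1) x).1 hx
        AQ := hA
        Asq := fun a ha x hx => by
          have h1 := hA2 a ha
          rw [mem_bot]
          calc a * (a * x * a⁻¹) * a⁻¹ * x⁻¹ = a ^ 2 * x * (a ^ 2)⁻¹ * x⁻¹ := by rw [pow_two]; group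
            _ = 1 := by rw [h1]; group } ?_ ?_
    · intro a
      rw [mem_inf]
      refine and_congr_right fun ha => ?_
      rw [mem_centralizer_iff]
      refine forall₂_congr fun x hx => ?_
      rw [mem_bot, mul_inv_eq_one, mul_inv_eq_iff_eq_mul, eq_comm]
    · intro x
      rw [mem_inf]
      refine and_congr_right fun hx => ?_
      rw [mem_centralizer_iff]
      refine forall₂_congr fun a ha => ?_
      rw [mem_bot, mul_inv_eq_one, mul_inv_eq_iff_eq_mul]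
  rwa [inf_relIndex_left, inf_relIndex_left] at hmain

/-- **(NO)** for `A ≤ O₂(D)` -/
theorem no_D (hML : MLK.{u, u}) {j : Fin k} (hK : IsKGroup (YQ Z j)) {A : Subgroup G}
    (hA : A ≤ o2 (centralizer (ZJ : Set G))) (hA2 : ∀ a ∈ A, a ^ 2 = 1) :
    (centralizer (NQ Z j : Set G)).relIndex A ≤ (centralizer (A : Set G)).relIndex (NQ Z j) := by
  obtain ⟨m, hm, hm1, hmT⟩ := h.exists_m j
  exact h.no_m hML hm hm1 hmT hK (hA.trans (h.O_le hm hm1)) hA2

/-- **(NO)** in the form of `StarE.Fr.no` -/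
theorem noOn (hML : MLK.{u, u}) {j : Fin k} (hK : IsKGroup (YQ Z j)) :
    Rank.NoOn (o2 (centralizer (ZJ : Set G))) (NQ Z j) := fun _ hA hAO => h.no_D hML hK hAO hA.2

end FrQ

end Cfsg.Agent.Omega.EK3.Q

end

section


/-!
# (E), `k ≥ 3`, `q ≥ 4` (bb #22703, #23165, #23990): `(NO)` over the frame `FrG`

`FrG.noOn` : `|A : C_A(N_j)| ≤ |N_j : C_{N_j}(A)|` for the elementary abelian subgroups `A` of `O₂(D)`.

Port of `EK3/Q/NoOn.lean` to the frame `FrG` over `MulG`.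
-/

set_option autoImplicit false
set_option linter.unusedSectionVars false

namespace Cfsg.Agent.Omega.EK3.QG

open Subgroup Cfsg Cfsg.Agent.ZN.ChoiceBase
open Cfsg.Agent.ZN (jj zj bau zc zl o2)
open Cfsg.Agent.ZN.ChoiceSit (Syl exists_syl syl_conj isPGroup_o2 le_o2 le_normalizer_o2 o2_le_syl syl_not_dvd)
open Cfsg.Agent.Omega
open Cfsg.Agent.Omega.OM
open Cfsg.Agent.Omega.NO3S.EThree.Frame
open Cfsg.Agent.Omega.NO3S.EMany
open Cfsg.Agent.Omega.ML.Final (MLK)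

open Cfsg.Agent.Omega.Node.MulG
open Cfsg.Agent.Omega.EK3.Q

universe u

variable {G : Type u} [Group G] {k : ℕ}

namespace FrG

variable [Finite G] {S : Sylow 2 G} {P K B ZJ : Subgroup G} {L W Z C : Fin k → Subgroup G} {q : ℕ}
  (h : FrG S P K B ZJ L W Z C q)
include h

/-- **(NO)** at `m`, over `T_j` -/
theorem no_m (hML : MLK.{u, u}) {j : Fin k} {m : G} (hm : m ∈ Z j)
    (hm1 : m ≠ 1) (hmT : TY S Z j ≤ centralizer ({m} : Set G)) (hK : IsKGroup (YQ Z j)) {A : Subgroup G}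
    (hA : A ≤ o2 (YQ Z j ⊓ centralizer ({m} : Set G))) (hA2 : ∀ a ∈ A, a ^ 2 = 1) :
    (centralizer (NQ Z j : Set G)).relIndex A ≤ (centralizer (A : Set G)).relIndex (NQ Z j) := by
  have hmain : (A ⊓ centralizer (NQ Z j : Set G)).relIndex A ≤
      (NQ Z j ⊓ centralizer (A : Set G)).relIndex (NQ Z j) := by
    refine hML.grp (C := YQ Z j) (W := NQ Z j) (Y := ⊥) (T := TY S Z j)
      (Q := o2 (YQ Z j ⊓ centralizer ({m} : Set G))) (A := A) (w := m) hK
      { nW := h.NQ_norm j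
        nY := fun x _ => by
          rw [mem_normalizer_iff]
          intro y
          rw [mem_bot, mem_bot, conj_eq_one_iff]
        YW := bot_le
        WY := fun x _ => by
          rw [mem_normalizer_iff]
          intro y
          rw [mem_bot, mem_bot, conj_eq_one_iff]
        sq := fun x hx => by
          rw [mem_bot, ← pow_two]
          exact h.NQ_sq hx
        mem := h.Z_le_NQ j hm
        gen := fun U hmU _ hU => by
          refine h.NQ_min (fun z hz => ?_) hU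
          by_cases hz1 : z = 1
          · rw [hz1]; exact one_mem _
          obtain ⟨l, hl, e⟩ := h.trL ((h.mul.bg.fr.blk j).ZV hz) hz1 hm hm1
          rw [← e]
          exact (mem_normalizer_iff.1 (hU (h.L_le j hl)) m).1 hmU
        TC := (h.syl j).1
        two := (h.syl j).2.1
        odd := syl_not_dvd (h.syl j)
        fixT := fun t ht => by
          rw [mem_bot, mem_centralizer_singleton_iff.1 (hmT ht)]; group
        QC := (MinSimple.VModule.o2_le _).trans inf_le_left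
        Q2 := isPGroup_o2 _
        fixQ := fun x hx => by
          rw [mem_bot, mem_centralizer_singleton_iff.1 (MinSimple.VModule.o2_le _ hx).2]; group
        nrmQ := fun g hg hgm x hx => by
          rw [mem_bot, mul_inv_eq_one] at hgm
          have h1 : g ∈ YQ Z j ⊓ centralizer ({m} : Set G) := by
            refine mem_inf.2 ⟨hg, ?_⟩
            rw [mem_centralizer_singleton_iff]
            exact mul_inv_eq_iff_eq_mul.1 hgm
          exact (mem_normalizer_iff.1 (le_normalizer_o2 _ h1) x).1 hx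
        AQ := hA
        Asq := fun a ha x hx => by
          have h1 := hA2 a ha
          rw [mem_bot]
          calc a * (a * x * a⁻¹) * a⁻¹ * x⁻¹ = a ^ 2 * x * (a ^ 2)⁻¹ * x⁻¹ := by rw [pow_two]; group
            _ = 1 := by rw [h1]; group } ?_ ?_
    · intro a
      rw [mem_inf]
      refine and_congr_right fun ha => ?_
      rw [mem_centralizer_iff]
      refine forall₂_congr fun x hx => ?_
      rw [mem_bot, mul_inv_eq_one, mul_inv_eq_iff_eq_mul, eq_comm]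
    · intro x
      rw [mem_inf]
      refine and_congr_right fun hx => ?_
      rw [mem_centralizer_iff]
      refine forall₂_congr fun a ha => ?_
      rw [mem_bot, mul_inv_eq_one, mul_inv_eq_iff_eq_mul]
  rwa [inf_relIndex_left, inf_relIndex_left] at hmain

/-- **(NO)** for `A ≤ O₂(D)` -/
theorem no_D (hML : MLK.{u, u}) {j : Fin k} (hK : IsKGroup (YQ Z j)) {A : Subgroup G}
    (hA : A ≤ o2 (centralizer (ZJ : Set G))) (hA2 : ∀ a ∈ A, a ^ 2 = 1) :
    (centralizer (NQ Z j : Set G)).relIndex A ≤ (centralizer (A : Set G)).relIndex (NQ Z j) := by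
  obtain ⟨m, hm, hm1, hmT⟩ := h.exists_m j
  exact h.no_m hML hm hm1 hmT hK (hA.trans (h.O_le hm hm1)) hA2

/-- **(NO)** in the form of `StarE.Fr.no` -/
theorem noOn (hML : MLK.{u, u}) {j : Fin k} (hK : IsKGroup (YQ Z j)) :
    Rank.NoOn (o2 (centralizer (ZJ : Set G))) (NQ Z j) := fun _ hA hAO => h.no_D hML hK hAO hA.2

end FrG

end Cfsg.Agent.Omega.EK3.QG

end
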