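import Cfsg.Agent.Mrg.Omega.EK3.FK.OfSplit
import Cfsg.Agent.Mrg.Omega.EK3.Q.End


/-!
# Row (8) of the ledger #22041: `EOf K (3 ≤ k ∧ 4 ≤ q)`, all stages, modulo `MLK`, `Ext`

* `midIn` : the frame `FrQ` is impossible;
* **`eOf`** : **row (8)**.
-/

set_option autoImplicit false

namespace Cfsg.Agent.Omega.EK3.Q.Tree

open Cfsg.Agent.Omega.Frame (Cls)
open Cfsg.Agent.Omega.Node.MultiOf
open Cfsg.Agent.Omega.ML.Final (MLK)

universe u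

theorem midIn (hML : MLK.{u, u}) (hX : ML.Ex.Two.Ext.{u, u}) : MidIn.{u} :=
  fun _ _ _ _ _ _ _ _ _ _ _ _ _ _ h hK hN => h.false hML hX hK hN

/-- **Row (8)**: (E), `k ≥ 3`, `q ≥ 4`, every stage. -/
theorem eOf (hML : MLK.{u, u}) (hX : ML.Ex.Two.Ext.{u, u}) (K : Cls.{u}) : EOf K fun k q => 3 ≤ k ∧ 4 ≤ q :=
  eOf_of hML hX (midIn hML hX) K

end Cfsg.Agent.Omega.EK3.Q.Tree
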